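import Cfsg.Agent.Lib.Recog.SlimSp.Basic
import Cfsg.Agent.Lib.Recog.CTBond.Blocks

/-!
# The abstract amalgam
-/

set_option autoImplicit false

namespace CfsgLib.Recog.SlimSp

open Matrix CfsgLib.Known.SpBounded

variable {F : Type*} [Field F]

/-- generators of a pair subgroup -/
def pairGen {n : ℕ} {G : Type*} [Group G] (S : Fin (n + 1) → SpecialLinearGroup (Fin 2) F →* G) (m : Fin n → F → G)
    (i : Fin n) (j : Fin (n + 1)) : Set G :=
  Set.range (S j) ∪ Set.range (m i) ∪ Set.range (fun t => S i.castSucc (xp t)) ∪ Set.range (fun t => S i.succ (xp t))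

/-- the amalgam, mapped to the symplectic group -/
structure Amal (F : Type*) [Field F] (n : ℕ) (G : Type*) [Group G] where
  π : G →* Spn F (n + 1)
  S : Fin (n + 1) → SpecialLinearGroup (Fin 2) F →* G
  m : Fin n → F → G
  hS : ∀ j M, π (S j M) = s2 j M
  hm : ∀ i t, π (m i t) = uE i.castSucc i.succ t
  hSS : ∀ j l, j ≠ l → ∀ M N, Commute (S j M) (S l N)
  hmm : ∀ i i' t u, Commute (m i t) (m i' u)
  hL : ∀ i j, ∀ g ∈ Subgroup.closure (pairGen S m i j), π g = 1 → g = 1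

namespace Amal

variable {n : ℕ} {G : Type*} [Group G] (A : Amal F n G)

/-- a pair subgroup -/
def L (i : Fin n) (j : Fin (n + 1)) : Subgroup G := Subgroup.closure (pairGen A.S A.m i j)

theorem S_mem_L (i : Fin n) (j : Fin (n + 1)) (M : SpecialLinearGroup (Fin 2) F) : A.S j M ∈ A.L i j :=
  Subgroup.subset_closure (Or.inl (Or.inl (Or.inl ⟨M, rfl⟩)))

theorem m_mem_L (i : Fin n) (j : Fin (n + 1)) (t : F) : A.m i t ∈ A.L i j :=
  Subgroup.subset_closure (Or.inl (Or.inl (Or.inr ⟨t, rfl⟩)))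

theorem xpl_mem_L (i : Fin n) (j : Fin (n + 1)) (t : F) : A.S i.castSucc (xp t) ∈ A.L i j :=
  Subgroup.subset_closure (Or.inl (Or.inr ⟨t, rfl⟩))

theorem xpr_mem_L (i : Fin n) (j : Fin (n + 1)) (t : F) : A.S i.succ (xp t) ∈ A.L i j :=
  Subgroup.subset_closure (Or.inr ⟨t, rfl⟩)

theorem eqL {i : Fin n} {j : Fin (n + 1)} {g h : G} (hg : g ∈ A.L i j) (hh : h ∈ A.L i j) (e : A.π g = A.π h) :
    g = h := by
  rw [← mul_inv_eq_one]
  exact A.hL i j _ (mul_mem hg (inv_mem hh)) (by rw [map_mul, map_inv, e, mul_inv_cancel])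

theorem πS_inl (j : Fin (n + 1)) (M : SpecialLinearGroup (Fin 2) F) (x : Vec F (n + 1)) (l : Fin (n + 1)) :
    act (A.π (A.S j M)) x (Sum.inl l) =
      if l = j then M.1 0 0 * x (Sum.inl j) + M.1 0 1 * x (Sum.inr j) else x (Sum.inl l) := by
  rw [A.hS, s2_inl]

theorem πS_inr (j : Fin (n + 1)) (M : SpecialLinearGroup (Fin 2) F) (x : Vec F (n + 1)) (l : Fin (n + 1)) :
    act (A.π (A.S j M)) x (Sum.inr l) =
      if l = j then M.1 1 0 * x (Sum.inl j) + M.1 1 1 * x (Sum.inr j) else x (Sum.inr l) := by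
  rw [A.hS, s2_inr]

theorem πm_inl (i : Fin n) (t : F) (x : Vec F (n + 1)) (l : Fin (n + 1)) :
    act (A.π (A.m i t)) x (Sum.inl l) = x (Sum.inl l) +
      if l = i.castSucc then t * x (Sum.inr i.succ) else if l = i.succ then t * x (Sum.inr i.castSucc) else 0 := by
  rw [A.hm, uE_inl Fin.castSucc_lt_succ.ne]

theorem πm_inr (i : Fin n) (t : F) (x : Vec F (n + 1)) (l : Fin (n + 1)) :
    act (A.π (A.m i t)) x (Sum.inr l) = x (Sum.inr l) := by
  rw [A.hm, uE_inr]

theorem m_add (i : Fin n) (t u : F) : A.m i t * A.m i u = A.m i (t + u) := by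
  refine A.eqL (i := i) (j := i.castSucc) (mul_mem (A.m_mem_L _ _ _) (A.m_mem_L _ _ _)) (A.m_mem_L _ _ _)
    (act_ext fun x => funext fun l => ?_)
  rw [map_mul, act_mul]
  have h : i.castSucc ≠ i.succ := Fin.castSucc_lt_succ.ne
  rcases l with l | l <;> simp only [πm_inl, πm_inr]
  split_ifs <;> ring

theorem m_zero (i : Fin n) : A.m i 0 = 1 := by
  have h := A.m_add i 0 0
  rw [add_zero] at h
  exact mul_eq_left.1 h

theorem m_neg (i : Fin n) (t : F) : A.m i (-t) = (A.m i t)⁻¹ := by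
  rw [eq_inv_iff_mul_eq_one, A.m_add, neg_add_cancel, A.m_zero]

theorem m_comm_S {i : Fin n} {j : Fin (n + 1)} (h1 : j ≠ i.castSucc) (h2 : j ≠ i.succ) (t : F)
    (M : SpecialLinearGroup (Fin 2) F) : Commute (A.m i t) (A.S j M) := by
  refine A.eqL (i := i) (j := j) (mul_mem (A.m_mem_L _ _ _) (A.S_mem_L _ _ _))
    (mul_mem (A.S_mem_L _ _ _) (A.m_mem_L _ _ _)) (act_ext fun x => funext fun l => ?_)
  simp only [map_mul, act_mul]
  rcases l with l | l
  · simp only [πm_inl, πm_inr, πS_inl, πS_inr, if_neg h1.symm, if_neg h2.symm]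
    split_ifs <;> simp_all
  · simp only [πm_inl, πm_inr, πS_inr, if_neg h1, if_neg h2]
    split_ifs <;> simp_all

theorem m_comm_xp (i : Fin n) (j : Fin (n + 1)) (t u : F) : Commute (A.m i t) (A.S j (xp u)) := by
  by_cases h1 : j = i.castSucc
  · subst h1
    refine A.eqL (i := i) (j := i.castSucc) (mul_mem (A.m_mem_L _ _ _) (A.S_mem_L _ _ _))
      (mul_mem (A.S_mem_L _ _ _) (A.m_mem_L _ _ _)) (act_ext fun x => funext fun l => ?_)
    have h : i.castSucc ≠ i.succ := Fin.castSucc_lt_succ.ne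
    simp only [map_mul, act_mul]
    rcases l with l | l <;> simp only [πm_inl, πm_inr, πS_inl, πS_inr, xp_coe] <;>
      split_ifs <;> simp_all <;> ring
  by_cases h2 : j = i.succ
  · subst h2
    refine A.eqL (i := i) (j := i.succ) (mul_mem (A.m_mem_L _ _ _) (A.S_mem_L _ _ _))
      (mul_mem (A.S_mem_L _ _ _) (A.m_mem_L _ _ _)) (act_ext fun x => funext fun l => ?_)
    have h : i.castSucc ≠ i.succ := Fin.castSucc_lt_succ.ne
    simp only [map_mul, act_mul]
    rcases l with l | l <;> simp only [πm_inl, πm_inr, πS_inl, πS_inr, xp_coe] <;>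
      split_ifs <;> simp_all <;> ring
  exact A.m_comm_S h1 h2 t _

/-- all generators -/
def K : Subgroup G := Subgroup.closure ((⋃ j, Set.range (A.S j)) ∪ ⋃ i, Set.range (A.m i))

/-- the generators fixing the first coordinate vector -/
def P : Subgroup G :=
  Subgroup.closure (Set.range (fun t => A.S 0 (xp t)) ∪ {g | ∃ j, j ≠ 0 ∧ ∃ M, g = A.S j M} ∪ ⋃ i, Set.range (A.m i))

theorem S_mem_K (j : Fin (n + 1)) (M : SpecialLinearGroup (Fin 2) F) : A.S j M ∈ A.K :=
  Subgroup.subset_closure (Or.inl (Set.mem_iUnion.2 ⟨j, M, rfl⟩))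

theorem m_mem_K (i : Fin n) (t : F) : A.m i t ∈ A.K :=
  Subgroup.subset_closure (Or.inr (Set.mem_iUnion.2 ⟨i, t, rfl⟩))

theorem xp_mem_P (t : F) : A.S 0 (xp t) ∈ A.P := Subgroup.subset_closure (Or.inl (Or.inl ⟨t, rfl⟩))

theorem S_mem_P {j : Fin (n + 1)} (h : j ≠ 0) (M : SpecialLinearGroup (Fin 2) F) : A.S j M ∈ A.P :=
  Subgroup.subset_closure (Or.inl (Or.inr ⟨j, h, M, rfl⟩))

theorem m_mem_P (i : Fin n) (t : F) : A.m i t ∈ A.P :=
  Subgroup.subset_closure (Or.inr (Set.mem_iUnion.2 ⟨i, t, rfl⟩))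

theorem P_le_K : A.P ≤ A.K := (Subgroup.closure_le _).2 (by
  rintro g ((⟨t, rfl⟩ | ⟨j, -, M, rfl⟩) | h)
  · exact A.S_mem_K _ _
  · exact A.S_mem_K _ _
  · obtain ⟨i, t, rfl⟩ := Set.mem_iUnion.1 h
    exact A.m_mem_K _ _)

end Amal

/-- the pullback carrying the amalgam one size down -/
def pull {n : ℕ} {G : Type*} [Group G] (A : Amal F (n + 1) G) : Subgroup (Spn F (n + 1) × G) :=
  MonoidHom.eqLocus ((emb (n + 1) F).comp (MonoidHom.fst _ _)) (A.π.comp (MonoidHom.snd _ _))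

/-- the amalgam one size down -/
def Amal.tail {n : ℕ} {G : Type*} [Group G] (A : Amal F (n + 1) G) : Amal F n (pull A) where
  π := (MonoidHom.fst _ _).comp (pull A).subtype
  S j :=
    { toFun := fun M => ⟨(s2 j M, A.S j.succ M), by
        show emb (n + 1) F (s2 j M) = A.π (A.S j.succ M)
        rw [emb_s2, A.hS]⟩
      map_one' := Subtype.ext (by simp)
      map_mul' := fun M N => Subtype.ext (by simp) }
  m i t := ⟨(uE i.castSucc i.succ t, A.m i.succ t), by
    show emb (n + 1) F (uE i.castSucc i.succ t) = A.π (A.m i.succ t)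
    rw [emb_uE, A.hm, Fin.castSucc_succ]⟩
  hS _ _ := rfl
  hm _ _ := rfl
  hSS j l h M N := Subtype.ext (Prod.ext
    (by
      refine act_ext fun x => funext fun k => ?_
      show act (s2 j M * s2 l N) x k = act (s2 l N * s2 j M) x k
      rw [act_mul, act_mul]
      rcases k with k | k <;> simp only [s2_inl, s2_inr] <;> split_ifs <;> simp_all)
    (A.hSS _ _ (fun e => h (Fin.succ_injective _ e)) M N).eq)
  hmm i i' t u := Subtype.ext (Prod.ext
    (by
      refine Subtype.ext ?_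
      show fromBlocks 1 _ 0 1 * fromBlocks 1 _ 0 1 = fromBlocks 1 _ 0 1 * fromBlocks 1 _ 0 1
      simp [Matrix.fromBlocks_multiply, add_comm])
    (A.hmm _ _ t u).eq)
  hL i j g hg h1 := by
    obtain ⟨⟨a, b⟩, hab⟩ := g
    obtain rfl : a = 1 := h1
    have e : A.π b = 1 := by
      have h2 : emb (n + 1) F 1 = A.π b := hab
      exact h2.symm.trans (map_one _)
    refine Subtype.ext (Prod.ext rfl (A.hL i.succ j.succ b ?_ e))
    have hle := Subgroup.mem_map_of_mem ((MonoidHom.snd (Spn F (n + 1)) G).comp (pull A).subtype) hg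
    rw [MonoidHom.map_closure] at hle
    refine Subgroup.closure_mono ?_ hle
    rintro _ ⟨x, ((⟨M, rfl⟩ | ⟨t, rfl⟩) | ⟨t, rfl⟩) | ⟨t, rfl⟩, rfl⟩
    · exact Or.inl (Or.inl (Or.inl ⟨M, rfl⟩))
    · exact Or.inl (Or.inl (Or.inr ⟨t, rfl⟩))
    · refine Or.inl (Or.inr ⟨t, ?_⟩)
      show A.S i.succ.castSucc (xp t) = A.S i.castSucc.succ (xp t)
      rw [Fin.castSucc_succ]
    · exact Or.inr ⟨t, rfl⟩

end CfsgLib.Recog.SlimSp
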