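import Cfsg.Agent.Lib.Recog.SlimSp.Step

/-!
# From the amalgam of subgroups to the completion
-/

set_option autoImplicit false

namespace CfsgLib.Recog.SlimSp

open Matrix CfsgLib.Known.SpBounded

universe u v

variable {F : Type u} [Field F] {n : ℕ}

theorem ext_basis {g h : Spn F n}
    (e : ∀ k, act g (eL F k) = act h (eL F k) ∧ act g (eR F k) = act h (eR F k)) : g = h :=
  Subtype.ext (Matrix.ext_of_mulVec_single fun l => by
    rcases l with k | k
    · exact (e k).1
    · exact (e k).2)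

theorem s2_commute {j l : Fin n} (h : j ≠ l) (M N : SpecialLinearGroup (Fin 2) F) :
    Commute (s2 j M) (s2 l N) :=
  act_ext fun x => funext fun k => by
    rcases k with k | k <;> simp only [act_mul, s2_inl, s2_inr] <;> split_ifs <;> simp_all

theorem uE_commute (i k i' k' : Fin n) (t t' : F) : Commute (uE i k t) (uE i' k' t') :=
  Subtype.ext (by simp [uE, Matrix.fromBlocks_multiply, add_comm])

theorem s2_fix (j : Fin n) (M : SpecialLinearGroup (Fin 2) F) {k : Fin n} (hk : k ≠ j) :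
    act (s2 j M) (eL F k) = eL F k ∧ act (s2 j M) (eR F k) = eR F k := by
  constructor <;> funext l <;> rcases l with l | l <;> simp only [s2_inl, s2_inr] <;> split_ifs <;>
    simp_all [eL, eR, Pi.single_apply]

theorem xp_fix (a : Fin n) (t : F) (k : Fin n) : act (s2 a (xp t)) (eL F k) = eL F k := by
  funext l
  rcases l with l | l <;> simp only [s2_inl, s2_inr, xp_coe] <;> split_ifs <;> simp_all [eL, Pi.single_apply]

theorem uE_fix {i k : Fin n} (h : i ≠ k) (t : F) (l : Fin n) :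
    act (uE i k t) (eL F l) = eL F l ∧ (l ≠ i → l ≠ k → act (uE i k t) (eR F l) = eR F l) := by
  constructor
  · funext m
    rcases m with m | m <;> simp [uE_inl h, uE_inr, eL]
  · intro h1 h2
    funext m
    rcases m with m | m <;> simp [uE_inl h, uE_inr, eR, h1.symm, h2.symm]

theorem act_symm_apply (g : Spn F n) (k : Fin n) (x : Vec F n) (h : act g (eL F k) = eL F k) :
    act g x (Sum.inr k) = x (Sum.inr k) := by
  rw [← om_eL k (act g x)]
  conv_lhs => rw [← h]
  rw [om_act, om_eL]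

theorem act_symm_apply' (g : Spn F n) (k : Fin n) (x : Vec F n) (h : act g (eR F k) = eR F k) :
    act g x (Sum.inl k) = x (Sum.inl k) := by
  rw [← neg_inj, ← om_eR k (act g x)]
  conv_lhs => rw [← h]
  rw [om_act, om_eR]

theorem exists_s2 {g : Spn F n} {j : Fin n}
    (h : ∀ k, k ≠ j → act g (eL F k) = eL F k ∧ act g (eR F k) = eR F k) : ∃ M, g = s2 j M := by
  have hd : ∀ x : Vec F n, act g x = fun l => if l = Sum.inl j then act g x l else
      if l = Sum.inr j then act g x l else x l := by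
    intro x
    funext l
    rcases l with l | l
    · rcases eq_or_ne l j with rfl | hl
      · simp
      · simp [hl, act_symm_apply' g l x (h l hl).2]
    · rcases eq_or_ne l j with rfl | hl
      · simp
      · simp [hl, act_symm_apply g l x (h l hl).1]
  have hdec : ∀ x : Vec F n, (∀ l, l ≠ j → x (Sum.inl l) = 0 ∧ x (Sum.inr l) = 0) →
      act g x = act g x (Sum.inl j) • eL F j + act g x (Sum.inr j) • eR F j := by
    intro x hx
    funext l
    rcases l with l | l <;> rcases eq_or_ne l j with rfl | hl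
    · simp [eL, eR]
    · rw [hd x]; simp [eL, eR, hl, (hx l hl).1]
    · simp [eL, eR]
    · rw [hd x]; simp [eL, eR, hl, (hx l hl).2]
  have e1 := hdec (eL F j) fun l hl => by simp [eL, hl]
  have e2 := hdec (eR F j) fun l hl => by simp [eR, hl]
  have hdet : act g (eL F j) (Sum.inl j) * act g (eR F j) (Sum.inr j) -
      act g (eR F j) (Sum.inl j) * act g (eL F j) (Sum.inr j) = 1 := by
    have h1 : om (act g (eL F j)) (act g (eR F j)) = 1 := by
      rw [om_act, om_eL]; simp [eR]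
    rw [e1, om_add_left, om_smul_left, om_smul_left, om_eL, om_eR] at h1
    linear_combination h1
  obtain ⟨T, hT⟩ : ∃ T : SpecialLinearGroup (Fin 2) F, (T : Matrix (Fin 2) (Fin 2) F) =
      !![act g (eL F j) (Sum.inl j), act g (eR F j) (Sum.inl j);
        act g (eL F j) (Sum.inr j), act g (eR F j) (Sum.inr j)] :=
    ⟨⟨_, by rw [Matrix.det_fin_two]; simpa using hdet⟩, rfl⟩
  refine ⟨T, ext_basis fun k => ?_⟩
  rcases eq_or_ne k j with rfl | hk
  · constructor <;> funext l
    · rcases l with l | l <;> rcases eq_or_ne l k with rfl | hl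
      · simp [s2_inl, hT, eL]
      · rw [e1]; simp [s2_inl, eL, eR, hl]
      · simp [s2_inr, hT, eL]
      · rw [e1]; simp [s2_inr, eL, eR, hl]
    · rcases l with l | l <;> rcases eq_or_ne l k with rfl | hl
      · simp [s2_inl, hT, eR]
      · rw [e2]; simp [s2_inl, eL, eR, hl]
      · simp [s2_inr, hT, eR]
      · rw [e2]; simp [s2_inr, eL, eR, hl]
  · exact ⟨(h k hk).1.trans (s2_fix j _ hk).1.symm, (h k hk).2.trans (s2_fix j _ hk).2.symm⟩

theorem exists_uE {g : Spn F n} {i k : Fin n} (hik : i ≠ k) (hL : ∀ l, act g (eL F l) = eL F l)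
    (hR : ∀ l, l ≠ i → l ≠ k → act g (eR F l) = eR F l) :
    ∃ p q r, g = uE i k q * (s2 i (xp p) * s2 k (xp r)) := by
  have hqq : act g (eR F i) (Sum.inl k) = act g (eR F k) (Sum.inl i) := by
    have hy : ∀ a, a = i ∨ a = k → act g (eR F a) = eR F a + act g (eR F a) (Sum.inl i) • eL F i +
        act g (eR F a) (Sum.inl k) • eL F k := by
      intro a ha
      funext l
      rcases l with l | l
      · rcases eq_or_ne l i with rfl | h1
        · simp [eR, eL, hik]
        · rcases eq_or_ne l k with rfl | h2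
          · simp [eR, eL, hik.symm]
          · rw [act_symm_apply' g l (eR F a) (hR l h1 h2)]
            simp [eR, eL, h1, h2]
      · rw [act_symm_apply g l (eR F a) (hL l)]
        simp [eR, eL]
    have h1 : om (act g (eR F i)) (act g (eR F k)) = 0 := by
      rw [om_act, om_eR]; simp [eR]
    rw [hy i (Or.inl rfl), om_add_left, om_add_left, om_smul_left, om_smul_left, om_eR, om_eL, om_eL] at h1
    rw [act_symm_apply g i _ (hL i), act_symm_apply g k _ (hL k)] at h1
    simp [eR, hik] at h1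
    simp only [eR]
    linear_combination h1
  refine ⟨act g (eR F i) (Sum.inl i), act g (eR F i) (Sum.inl k), act g (eR F k) (Sum.inl k),
    ext_basis fun a => ⟨?_, ?_⟩⟩
  · rw [hL, act_mul, act_mul, xp_fix, xp_fix, (uE_fix hik _ a).1]
  · by_cases hi : a = i
    · subst hi
      funext l
      rcases l with l | l
      · simp only [act_mul, uE_inl hik, uE_inr, s2_inl, s2_inr, xp_coe]
        rcases eq_or_ne l a with rfl | h1
        · simp [eR, hik, hik.symm]
        · rcases eq_or_ne l k with rfl | h2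
          · simp [eR, hik, hik.symm]
          · rw [act_symm_apply' g l (eR F a) (hR l h1 h2)]
            simp [eR, h1, h2]
      · simp only [act_mul, uE_inr, s2_inr, xp_coe]
        rw [act_symm_apply g l _ (hL l)]
        split_ifs <;> simp_all [eR]
    · by_cases hk : a = k
      · subst hk
        funext l
        rcases l with l | l
        · simp only [act_mul, uE_inl hik, uE_inr, s2_inl, s2_inr, xp_coe]
          rcases eq_or_ne l i with rfl | h1
          · rw [← hqq]
            simp [eR, hik, hik.symm]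
          · rcases eq_or_ne l a with rfl | h2
            · simp [eR, hik, hik.symm]
            · rw [act_symm_apply' g l (eR F a) (hR l h1 h2)]
              simp [eR, h1, h2]
        · simp only [act_mul, uE_inr, s2_inr, xp_coe]
          rw [act_symm_apply g l _ (hL l)]
          split_ifs <;> simp_all [eR]
      · rw [hR a hi hk, act_mul, act_mul, (s2_fix k _ hk).2, (s2_fix i _ hi).2, (uE_fix hik _ a).2 hi hk]

theorem act_of_sympTransvection {g : Spn F n} {v : Vec F n} {c : F}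
    (h : g.1 = Cfsg.sympTransvection n v c) (x : Vec F n) : act g x = x + (c * om v x) • v := by
  have e : Matrix.vecMulVec v (Matrix.J (Fin n) F *ᵥ v) *ᵥ x = ((Matrix.J (Fin n) F *ᵥ v) ⬝ᵥ x) • v := by
    rw [Matrix.vecMulVec_mulVec]
    simp [op_smul_eq_smul]
  rw [act, h, Cfsg.sympTransvection, Matrix.add_mulVec, Matrix.one_mulVec, Matrix.smul_mulVec, e, smul_smul]
  congr 3
  rw [om_eq, dotProduct_comm]
  have hs : ∀ a b : Vec F n, a ⬝ᵥ (Matrix.J (Fin n) F *ᵥ b) = -(b ⬝ᵥ (Matrix.J (Fin n) F *ᵥ a)) := by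
    intro a b
    rw [Matrix.dotProduct_mulVec, ← Matrix.mulVec_transpose, Matrix.J_transpose, Matrix.neg_mulVec,
      neg_dotProduct, dotProduct_comm]
  exact hs x v

section

variable {n : ℕ} {G : Type (max u v)} [Group G]

theorem π_surj (A : Amal F n G) (hA : OK A) (g : Spn F (n + 1)) : ∃ k ∈ A.K, A.π k = g := by
  have hle : Subgroup.closure {A : Spn F (n + 1) | ∃ (w : Vec F (n + 1)) (c : F),
      A.1 = Cfsg.sympTransvection (n + 1) w c} ≤ A.K.map A.π := by
    rw [Subgroup.closure_le]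
    rintro T ⟨w, c, hT⟩
    rcases eq_or_ne w 0 with rfl | hw
    · have : T = 1 := act_ext fun x => by
        rw [act_of_sympTransvection hT, smul_zero, add_zero, act_one]
      exact this ▸ one_mem _
    obtain ⟨k, hk, e⟩ := hA.trans w hw
    refine ⟨k * A.S 0 (xp c) * k⁻¹, mul_mem (mul_mem hk (A.S_mem_K _ _)) (inv_mem hk), act_ext fun x => ?_⟩
    have hz : ∀ y, act (A.π (A.S 0 (xp c))) y = y + (c * om (eL F 0) y) • eL F 0 := by
      intro y
      funext l
      rw [om_eL]
      rcases l with l | l <;> simp only [A.πS_inl, A.πS_inr, xp_coe] <;> split_ifs <;> simp_all [eL]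
    rw [map_mul, map_mul, map_inv, act_mul, act_mul, hz, act_add, act_act_inv, act_smul, e,
      act_of_sympTransvection hT, ← om_act (A.π k) (eL F 0), e, act_act_inv]
  rw [CfsgLib.Classical.Symp.closure_sympTransvection_eq_top] at hle
  exact hle (Subgroup.mem_top g)

end

theorem completion {n : ℕ} (hF : ∃ a : F, a ≠ 0 ∧ a ≠ 1)
    (S M : Fin (n + 1) → Subgroup (Spn F (n + 1)))
    (hS : ∀ j, S j = Subgroup.closure {A : Spn F (n + 1) | ∀ k, k ≠ j →
      act A (eL F k) = eL F k ∧ act A (eR F k) = eR F k})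
    (hM : ∀ i : Fin (n + 1), (i : ℕ) + 1 < n + 1 → M i = Subgroup.closure {A : Spn F (n + 1) |
      (∀ k, act A (eL F k) = eL F k) ∧
        ∀ k : Fin (n + 1), (k : ℕ) ≠ i → (k : ℕ) ≠ (i : ℕ) + 1 → act A (eR F k) = eR F k})
    {H : Type v} [Group H] (σ : ∀ j, ↥(S j) →* H) (μ : ∀ i, ↥(M i) →* H)
    (hSS : ∀ j l, j ≠ l → ∃ Ψ : ↥(S j ⊔ S l) →* H,
      (∀ (g : Spn F (n + 1)) (hg : g ∈ S j), Ψ ⟨g, Subgroup.mem_sup_left hg⟩ = σ j ⟨g, hg⟩) ∧
        (∀ (g : Spn F (n + 1)) (hg : g ∈ S l), Ψ ⟨g, Subgroup.mem_sup_right hg⟩ = σ l ⟨g, hg⟩))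
    (hMM : ∀ i i' : Fin (n + 1), i ≠ i' → (i : ℕ) + 1 < n + 1 → (i' : ℕ) + 1 < n + 1 →
      ∃ Ψ : ↥(M i ⊔ M i') →* H,
        (∀ (g : Spn F (n + 1)) (hg : g ∈ M i), Ψ ⟨g, Subgroup.mem_sup_left hg⟩ = μ i ⟨g, hg⟩) ∧
          (∀ (g : Spn F (n + 1)) (hg : g ∈ M i'), Ψ ⟨g, Subgroup.mem_sup_right hg⟩ = μ i' ⟨g, hg⟩))
    (hMS : ∀ i j : Fin (n + 1), (i : ℕ) + 1 < n + 1 → ∃ Ψ : ↥(M i ⊔ S j) →* H,
      (∀ (g : Spn F (n + 1)) (hg : g ∈ M i), Ψ ⟨g, Subgroup.mem_sup_left hg⟩ = μ i ⟨g, hg⟩) ∧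
        (∀ (g : Spn F (n + 1)) (hg : g ∈ S j), Ψ ⟨g, Subgroup.mem_sup_right hg⟩ = σ j ⟨g, hg⟩)) :
    ∃! Φ : Spn F (n + 1) →* H,
      (∀ j (g : Spn F (n + 1)) (hg : g ∈ S j), Φ g = σ j ⟨g, hg⟩) ∧
        (∀ i : Fin (n + 1), (i : ℕ) + 1 < n + 1 → ∀ (g : Spn F (n + 1)) (hg : g ∈ M i), Φ g = μ i ⟨g, hg⟩) := by
  have hi : ∀ i : Fin n, (i.castSucc : ℕ) + 1 < n + 1 := fun i => by
    rw [Fin.val_castSucc]; omega
  have memS : ∀ j T, s2 j T ∈ S j := fun j T => by
    rw [hS]; exact Subgroup.subset_closure fun k hk => s2_fix j T hk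
  have memU : ∀ (i : Fin n) t, uE i.castSucc i.succ t ∈ M i.castSucc := fun i t => by
    rw [hM _ (hi i)]
    exact Subgroup.subset_closure ⟨fun k => (uE_fix Fin.castSucc_lt_succ.ne t k).1,
      fun k h1 h2 => (uE_fix Fin.castSucc_lt_succ.ne t k).2 (fun e => h1 (by rw [e]))
        (fun e => h2 (by rw [e]; simp))⟩
  have memX : ∀ (i : Fin n) a, (a = i.castSucc ∨ a = i.succ) → ∀ t, s2 a (xp t) ∈ M i.castSucc := by
    intro i a ha t
    rw [hM _ (hi i)]
    refine Subgroup.subset_closure ⟨fun k => xp_fix a t k, fun k h1 h2 => (s2_fix a _ ?_).2⟩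
    rintro rfl
    rcases ha with rfl | rfl
    · exact h1 rfl
    · exact h2 (by simp)
  have agree : ∀ (i : Fin n) a, (a = i.castSucc ∨ a = i.succ) → ∀ t (h1 : s2 a (xp t) ∈ M i.castSucc)
      (h2 : s2 a (xp t) ∈ S a), μ i.castSucc ⟨_, h1⟩ = σ a ⟨_, h2⟩ := by
    intro i a _ t h1 h2
    obtain ⟨Ψ, hl, hr⟩ := hMS i.castSucc a (hi i)
    rw [← hl _ h1, ← hr _ h2]
  let A : Amal F n (Spn F (n + 1) × H) :=
    { π := MonoidHom.fst _ _
      S := fun j => MonoidHom.prod (s2 j) ((σ j).comp ((s2 j).codRestrict (S j) (memS j)))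
      m := fun i t => (uE i.castSucc i.succ t, μ i.castSucc ⟨_, memU i t⟩)
      hS := fun _ _ => rfl
      hm := fun _ _ => rfl
      hSS := fun j l hjl T U => by
        refine Commute.prod (s2_commute hjl T U) ?_
        obtain ⟨Ψ, hl, hr⟩ := hSS j l hjl
        show Commute (σ j ⟨s2 j T, memS j T⟩) (σ l ⟨s2 l U, memS l U⟩)
        rw [← hl _ (memS j T), ← hr _ (memS l U)]
        refine Commute.map ?_ Ψ
        exact Subtype.ext (s2_commute hjl T U).eq
      hmm := fun i i' t u => by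
        refine Commute.prod (uE_commute _ _ _ _ t u) ?_
        rcases eq_or_ne i i' with rfl | hne
        · refine Commute.map ?_ (μ i.castSucc)
          exact Subtype.ext (uE_commute _ _ _ _ t u).eq
        obtain ⟨Ψ, hl, hr⟩ := hMM i.castSucc i'.castSucc (fun e => hne (Fin.castSucc_inj.1 e)) (hi i) (hi i')
        rw [← hl _ (memU i t), ← hr _ (memU i' u)]
        refine Commute.map ?_ Ψ
        exact Subtype.ext (uE_commute _ _ _ _ t u).eq
      hL := fun i j g hg h1 => by
        obtain ⟨Ψ, hl, hr⟩ := hMS i.castSucc j (hi i)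
        have hsub : g ∈ (MonoidHom.prod (M i.castSucc ⊔ S j).subtype Ψ).range := by
          refine (Subgroup.closure_le _).2 ?_ hg
          rintro x (((⟨T, rfl⟩ | ⟨t, rfl⟩) | ⟨t, rfl⟩) | ⟨t, rfl⟩)
          · exact ⟨⟨_, Subgroup.mem_sup_right (memS j T)⟩, Prod.ext rfl (hr _ (memS j T))⟩
          · exact ⟨⟨_, Subgroup.mem_sup_left (memU i t)⟩, Prod.ext rfl (hl _ (memU i t))⟩
          · exact ⟨⟨_, Subgroup.mem_sup_left (memX i _ (Or.inl rfl) t)⟩, Prod.ext rfl
              ((hl _ (memX i _ (Or.inl rfl) t)).trans (agree i _ (Or.inl rfl) t _ (memS _ _)))⟩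
          · exact ⟨⟨_, Subgroup.mem_sup_left (memX i _ (Or.inr rfl) t)⟩, Prod.ext rfl
              ((hl _ (memX i _ (Or.inr rfl) t)).trans (agree i _ (Or.inr rfl) t _ (memS _ _)))⟩
        obtain ⟨x, rfl⟩ := hsub
        obtain rfl : x = 1 := Subtype.ext h1
        exact map_one _ }
  have hA : OK A := ok hF n A
  have hbij : Function.Bijective (A.π.comp A.K.subtype) := by
    refine ⟨(injective_iff_map_eq_one _).2 fun k hk => Subtype.ext (hA.inj k k.2 hk), fun g => ?_⟩
    obtain ⟨k, hk, e⟩ := π_surj A hA g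
    exact ⟨⟨k, hk⟩, e⟩
  let e := MulEquiv.ofBijective _ hbij
  let Φ : Spn F (n + 1) →* H := ((MonoidHom.snd _ _).comp A.K.subtype).comp e.symm.toMonoidHom
  have hΦ : ∀ k ∈ A.K, Φ (A.π k) = k.2 := fun k hk => by
    show ((e.symm (A.π k)).1).2 = k.2
    rw [show e.symm (A.π k) = ⟨k, hk⟩ from e.symm_apply_eq.2 rfl]
  have hΦS : ∀ j (g : Spn F (n + 1)) (hg : g ∈ S j), Φ g = σ j ⟨g, hg⟩ := by
    intro j g hg
    have hrange : S j ≤ (s2 j).range := by
      rw [hS, Subgroup.closure_le]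
      exact fun B hB => (exists_s2 hB).imp fun _ h => h.symm
    obtain ⟨T, rfl⟩ := hrange hg
    exact hΦ _ (A.S_mem_K j T)
  refine ⟨Φ, ⟨hΦS, fun i hlt g hg => ?_⟩, fun Φ' hΦ' => MonoidHom.ext fun g => ?_⟩
  · obtain ⟨i, rfl⟩ : ∃ i' : Fin n, i = i'.castSucc := ⟨⟨i, by omega⟩, rfl⟩
    have hX : ∀ a, (a = i.castSucc ∨ a = i.succ) → ∀ t (h : s2 a (xp t) ∈ M i.castSucc),
        Φ (s2 a (xp t)) = μ i.castSucc ⟨_, h⟩ := fun a ha t h => by
      rw [hΦS a _ (memS _ _), agree i a ha t h]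
    have hg' := hg
    rw [hM _ hlt] at hg'
    suffices ∃ hg : g ∈ M i.castSucc, Φ g = μ i.castSucc ⟨g, hg⟩ from this.2
    clear hg
    induction hg' using Subgroup.closure_induction with
    | one => exact ⟨one_mem _, by rw [map_one]; exact (map_one _).symm⟩
    | mul a b _ _ ha hb =>
      obtain ⟨ha, ea⟩ := ha; obtain ⟨hb, eb⟩ := hb
      exact ⟨mul_mem ha hb, by rw [map_mul, ea, eb, ← map_mul]; rfl⟩
    | inv a _ ha =>
      obtain ⟨ha, ea⟩ := ha
      exact ⟨inv_mem ha, by rw [map_inv, ea, ← map_inv]; rfl⟩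
    | mem a ha =>
      obtain ⟨p, q, r, rfl⟩ := exists_uE (i := i.castSucc) (k := i.succ) Fin.castSucc_lt_succ.ne ha.1
        fun l h1 h2 => ha.2 l (fun e => h1 (Fin.ext e)) (fun e => h2 (Fin.ext (by simpa using e)))
      refine ⟨mul_mem (memU i q) (mul_mem (memX i _ (Or.inl rfl) p) (memX i _ (Or.inr rfl) r)), ?_⟩
      rw [map_mul, map_mul, hX _ (Or.inl rfl) p (memX i _ (Or.inl rfl) p),
        hX _ (Or.inr rfl) r (memX i _ (Or.inr rfl) r), show Φ (uE i.castSucc i.succ q) = μ i.castSucc ⟨_, memU i q⟩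
        from hΦ _ (A.m_mem_K i q), ← map_mul, ← map_mul]
      rfl
  · obtain ⟨k, hk, rfl⟩ := π_surj A hA g
    rw [hΦ k hk]
    induction hk using Subgroup.closure_induction with
    | one => rw [map_one, map_one]; rfl
    | mul a b _ _ ha hb => rw [map_mul, map_mul, ha, hb]; rfl
    | inv a _ ha => rw [map_inv, map_inv, ha]; rfl
    | mem a ha =>
      rcases ha with ha | ha
      · obtain ⟨j, T, rfl⟩ := Set.mem_iUnion.1 ha
        exact hΦ'.1 j _ (memS j T)
      · obtain ⟨i, t, rfl⟩ := Set.mem_iUnion.1 ha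
        exact hΦ'.2 _ (hi i) _ (memU i t)

end CfsgLib.Recog.SlimSp
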