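import Cfsg.Agent.Lib.Known.SpBounded.Kernel

/-!
# The slim symplectic amalgam: setup and coordinates
-/

set_option autoImplicit false

namespace CfsgLib.Recog.SlimSp

open Matrix CfsgLib.Known.SpBounded

variable {F : Type*} [Field F] {n : ℕ}

/-- the symplectic group with indices `0, …, n` -/
abbrev Spn (F : Type*) [Field F] (n : ℕ) := ↥(Matrix.symplecticGroup (Fin n) F)

/-- column vectors -/
abbrev Vec (F : Type*) (n : ℕ) := Fin n ⊕ Fin n → F

/-- the natural action -/
def act (g : Spn F n) (x : Vec F n) : Vec F n := g.1.mulVec x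

theorem act_mul (g h : Spn F n) (x : Vec F n) : act (g * h) x = act g (act h x) :=
  (Matrix.mulVec_mulVec x g.1 h.1).symm

theorem act_one (x : Vec F n) : act (1 : Spn F n) x = x := Matrix.one_mulVec x

theorem act_add (g : Spn F n) (x y : Vec F n) : act g (x + y) = act g x + act g y := Matrix.mulVec_add g.1 x y

theorem act_smul (g : Spn F n) (c : F) (x : Vec F n) : act g (c • x) = c • act g x := Matrix.mulVec_smul g.1 c x

theorem act_zero (g : Spn F n) : act g (0 : Vec F n) = 0 := Matrix.mulVec_zero g.1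

theorem act_inv_act (g : Spn F n) (x : Vec F n) : act g⁻¹ (act g x) = x := by
  rw [← act_mul, inv_mul_cancel, act_one]

theorem act_act_inv (g : Spn F n) (x : Vec F n) : act g (act g⁻¹ x) = x := by
  rw [← act_mul, mul_inv_cancel, act_one]

theorem act_ne_zero (g : Spn F n) {x : Vec F n} (h : x ≠ 0) : act g x ≠ 0 := fun e => h (by
  rw [← act_inv_act g x, e, act_zero])

theorem act_ext {g h : Spn F n} (e : ∀ x, act g x = act h x) : g = h :=
  Subtype.ext (Matrix.ext_of_mulVec_single fun i => e _)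

/-- the alternating form -/
def om (v x : Vec F n) : F := ∑ i : Fin n, (v (Sum.inl i) * x (Sum.inr i) - v (Sum.inr i) * x (Sum.inl i))

theorem om_eq (v x : Vec F n) : om v x = -(v ⬝ᵥ (Matrix.J (Fin n) F *ᵥ x)) := by
  obtain ⟨a, b, rfl⟩ : ∃ a b, x = Sum.elim a b := ⟨_, _, (Sum.elim_comp_inl_inr x).symm⟩
  obtain ⟨c, d, rfl⟩ : ∃ a b, v = Sum.elim a b := ⟨_, _, (Sum.elim_comp_inl_inr v).symm⟩
  simp [Matrix.J, Matrix.fromBlocks_mulVec, om, dotProduct, Fintype.sum_sum_type, Finset.sum_sub_distrib,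
    Matrix.neg_mulVec]
  ring

theorem om_act (g : Spn F n) (v x : Vec F n) : om (act g v) (act g x) = om v x := by
  rw [om_eq, om_eq]
  have hg : g.1ᵀ * Matrix.J (Fin n) F * g.1 = Matrix.J (Fin n) F := SymplecticGroup.mem_iff'.1 g.2
  congr 1
  show (g.1 *ᵥ v) ⬝ᵥ (Matrix.J (Fin n) F *ᵥ (g.1 *ᵥ x)) = _
  rw [Matrix.mulVec_mulVec, dotProduct_comm, Matrix.dotProduct_mulVec, ← Matrix.mulVec_transpose,
    Matrix.mulVec_mulVec, ← Matrix.mul_assoc, hg, dotProduct_comm]

theorem om_add_left (u v x : Vec F n) : om (u + v) x = om u x + om v x := by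
  simp [om, add_mul, Finset.sum_add_distrib]
  ring

theorem om_smul_left (c : F) (v x : Vec F n) : om (c • v) x = c * om v x := by
  simp [om, Finset.mul_sum, mul_sub, mul_assoc]

theorem om_zero_left (x : Vec F n) : om (0 : Vec F n) x = 0 := by simp [om]

theorem om_self (v : Vec F n) : om v v = 0 := by simp [om, mul_comm]

theorem om_smul_right (c : F) (v x : Vec F n) : om v (c • x) = c * om v x := by
  simp [om, Finset.mul_sum, mul_sub, mul_left_comm]

theorem om_add_right (u v x : Vec F n) : om x (u + v) = om x u + om x v := by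
  simp [om, mul_add, Finset.sum_add_distrib]
  ring

/-- coordinate vectors -/
def eL (F : Type*) [Field F] (i : Fin n) : Vec F n := Pi.single (Sum.inl i) 1

/-- coordinate vectors -/
def eR (F : Type*) [Field F] (i : Fin n) : Vec F n := Pi.single (Sum.inr i) 1

theorem om_eL (i : Fin n) (x : Vec F n) : om (eL F i) x = x (Sum.inr i) := by
  unfold om
  rw [Finset.sum_eq_single i (fun k _ hk => by simp [eL, hk]) (by simp)]
  simp [eL]

theorem om_eR (i : Fin n) (x : Vec F n) : om (eR F i) x = -x (Sum.inl i) := by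
  unfold om
  rw [Finset.sum_eq_single i (fun k _ hk => by simp [eR, hk]) (by simp)]
  simp [eR]

theorem exists_om_one {x : Vec F n} (h : x ≠ 0) : ∃ v, om v x = 1 := by
  obtain ⟨l, hl⟩ := Function.ne_iff.1 h
  rcases l with i | i
  · exact ⟨(-(x (Sum.inl i))⁻¹) • eR F i, by
      rw [om_smul_left, om_eR, neg_mul_neg, inv_mul_cancel₀ hl]⟩
  · exact ⟨(x (Sum.inr i))⁻¹ • eL F i, by rw [om_smul_left, om_eL, inv_mul_cancel₀ hl]⟩

/-- the root element of a pair of distinct indices -/
def uE (i k : Fin n) (t : F) : Spn F n :=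
  ⟨fromBlocks 1 (Sm i k t) 0 1, by
    rw [SymplecticGroup.mem_iff]
    have h : (Sm i k t)ᵀ = Sm i k t := Sm_symm i k t
    simp [Matrix.J, Matrix.fromBlocks_transpose, Matrix.fromBlocks_multiply, h]⟩

theorem s2_inl (i : Fin n) (M : SpecialLinearGroup (Fin 2) F) (x : Vec F n) (l : Fin n) :
    act (s2 i M) x (Sum.inl l) =
      if l = i then M.1 0 0 * x (Sum.inl i) + M.1 0 1 * x (Sum.inr i) else x (Sum.inl l) := by
  obtain ⟨a, b, rfl⟩ : ∃ a b, x = Sum.elim a b := ⟨_, _, (Sum.elim_comp_inl_inr x).symm⟩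
  simp only [act, coe_s2, s2m, Matrix.fromBlocks_mulVec, Sum.elim_inl, Sum.elim_inr, Sum.elim_comp_inl,
    Sum.elim_comp_inr, Pi.add_apply, Matrix.add_mulVec, Matrix.one_mulVec, Matrix.single_mulVec]
  split_ifs with h
  · subst h; simp; ring
  · simp [h]

theorem s2_inr (i : Fin n) (M : SpecialLinearGroup (Fin 2) F) (x : Vec F n) (l : Fin n) :
    act (s2 i M) x (Sum.inr l) =
      if l = i then M.1 1 0 * x (Sum.inl i) + M.1 1 1 * x (Sum.inr i) else x (Sum.inr l) := by
  obtain ⟨a, b, rfl⟩ : ∃ a b, x = Sum.elim a b := ⟨_, _, (Sum.elim_comp_inl_inr x).symm⟩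
  simp only [act, coe_s2, s2m, Matrix.fromBlocks_mulVec, Sum.elim_inl, Sum.elim_inr, Sum.elim_comp_inl,
    Sum.elim_comp_inr, Pi.add_apply, Matrix.add_mulVec, Matrix.one_mulVec, Matrix.single_mulVec]
  split_ifs with h
  · subst h; simp; ring
  · simp [h]

theorem uE_inl {i k : Fin n} (hik : i ≠ k) (t : F) (x : Vec F n) (l : Fin n) :
    act (uE i k t) x (Sum.inl l) =
      x (Sum.inl l) + if l = i then t * x (Sum.inr k) else if l = k then t * x (Sum.inr i) else 0 := by
  obtain ⟨a, b, rfl⟩ : ∃ a b, x = Sum.elim a b := ⟨_, _, (Sum.elim_comp_inl_inr x).symm⟩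
  simp only [act, uE, Matrix.fromBlocks_mulVec, Sum.elim_inl, Sum.elim_inr, Sum.elim_comp_inl,
    Sum.elim_comp_inr, Pi.add_apply, Matrix.one_mulVec, Sm, if_neg hik, Matrix.add_mulVec, Matrix.single_mulVec]
  congr 1
  by_cases h1 : l = i
  · subst h1; simp [hik]
  · by_cases h2 : l = k
    · subst h2; simp [hik.symm]
    · simp [h1, h2]

theorem uE_inr (i k : Fin n) (t : F) (x : Vec F n) (l : Fin n) :
    act (uE i k t) x (Sum.inr l) = x (Sum.inr l) := by
  obtain ⟨a, b, rfl⟩ : ∃ a b, x = Sum.elim a b := ⟨_, _, (Sum.elim_comp_inl_inr x).symm⟩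
  simp [act, uE, Matrix.fromBlocks_mulVec]



/-- tail of a vector -/
def tl (x : Vec F (n + 1)) : Vec F n := fun l => x (Sum.map Fin.succ Fin.succ l)

/-- a vector from head and tail -/
def vec (a : F) (y : Vec F n) (c : F) : Vec F (n + 1) :=
  Sum.elim (Fin.cons a fun i => y (Sum.inl i)) (Fin.cons c fun i => y (Sum.inr i))

omit [Field F] in
theorem vc_inl_zero (a : F) (y : Vec F n) (c : F) : vec a y c (Sum.inl 0) = a := rfl

omit [Field F] in
theorem vc_inr_zero (a : F) (y : Vec F n) (c : F) : vec a y c (Sum.inr 0) = c := rfl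

omit [Field F] in
theorem vc_inl_succ (a : F) (y : Vec F n) (c : F) (i : Fin n) : vec a y c (Sum.inl i.succ) = y (Sum.inl i) := by
  simp [vec]

omit [Field F] in
theorem vc_inr_succ (a : F) (y : Vec F n) (c : F) (i : Fin n) : vec a y c (Sum.inr i.succ) = y (Sum.inr i) := by
  simp [vec]

omit [Field F] in
theorem tl_vc (a : F) (y : Vec F n) (c : F) : tl (vec a y c) = y := by
  funext l; rcases l with l | l <;> simp [tl, vec]

omit [Field F] in
theorem vc_eta (x : Vec F (n + 1)) : vec (x (Sum.inl 0)) (tl x) (x (Sum.inr 0)) = x := by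
  funext l; rcases l with l | l <;> refine Fin.cases ?_ (fun i => ?_) l <;> simp [tl, vec]

theorem vc_inj {a a' c c' : F} {y y' : Vec F n} : vec a y c = vec a' y' c' ↔ a = a' ∧ y = y' ∧ c = c' := by
  refine ⟨fun h => ⟨?_, ?_, ?_⟩, fun h => by rw [h.1, h.2.1, h.2.2]⟩
  · exact congrFun h (Sum.inl 0)
  · rw [← tl_vc a y c, h, tl_vc]
  · exact congrFun h (Sum.inr 0)

theorem emb_act (g : Spn F n) (a : F) (y : Vec F n) (c : F) :
    act (emb n F g) (vec a y c) = vec a (act g y) c := by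
  obtain ⟨A, B, C, D, hg⟩ : ∃ A B C D, g.1 = fromBlocks A B C D := ⟨_, _, _, _, (Matrix.fromBlocks_toBlocks g.1).symm⟩
  obtain ⟨p, q, rfl⟩ : ∃ p q, y = Sum.elim p q := ⟨_, _, (Sum.elim_comp_inl_inr y).symm⟩
  have e : (emb n F g).1 = fromBlocks (pad 1 A) (pad 0 B) (pad 0 C) (pad 1 D) := by
    show embM g.1 = _
    rw [hg, embM_fromBlocks]
  funext l
  simp only [act, e, hg, Matrix.fromBlocks_mulVec]
  rcases l with l | l <;> refine Fin.cases ?_ (fun i => ?_) l <;>
    simp [vec, pad, Matrix.mulVec, dotProduct, Fin.sum_univ_succ]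

theorem emb_uE (i k : Fin n) (t : F) : emb n F (uE i k t) = uE i.succ k.succ t := by
  refine Subtype.ext ?_
  show embM (fromBlocks 1 (Sm i k t) 0 1) = fromBlocks 1 (Sm i.succ k.succ t) 0 1
  rw [embM_fromBlocks, pad_one, pad_zero, pad_Sm]

end CfsgLib.Recog.SlimSp
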