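import Cfsg.Agent.Lib.Recog.SlimSp.Law

/-!
# Cosets of the stabiliser
-/

set_option autoImplicit false

namespace CfsgLib.Recog.SlimSp

open Matrix CfsgLib.Known.SpBounded

variable {F : Type*} [Field F]

/-- an element sending the first coordinate vector to a multiple of its partner -/
noncomputable def dM (c : Fˣ) : SpecialLinearGroup (Fin 2) F :=
  hd ((-c⁻¹ : Fˣ) : F) (-c⁻¹ : Fˣ).ne_zero * wS F

theorem dM_coe (c : Fˣ) : (dM c).1 = !![0, -(c : F)⁻¹; (c : F), 0] := by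
  rw [dM, Matrix.SpecialLinearGroup.coe_mul, hd_coe, wS_coe]
  ext i j
  fin_cases i <;> fin_cases j <;> simp [inv_neg]

theorem dM_neg_one : dM (-1 : Fˣ) = wS F := Subtype.ext (by
  rw [dM_coe, wS_coe]
  ext i j
  fin_cases i <;> fin_cases j <;> simp)

theorem hd_dM (a c : Fˣ) : hd (a : F) a.ne_zero * dM c = dM (c * a⁻¹) := Subtype.ext (by
  rw [Matrix.SpecialLinearGroup.coe_mul, hd_coe, dM_coe, dM_coe]
  ext i j
  fin_cases i <;> fin_cases j <;> simp [mul_comm])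

theorem hd_wS' (a : Fˣ) : hd (a : F) a.ne_zero * wS F = dM (-a⁻¹) := by
  rw [← dM_neg_one, hd_dM, neg_one_mul]

namespace Amal

variable {n : ℕ} {G : Type*} [Group G] (A : Amal F (n + 1) G) (hT : OK A.tail)

/-- the coset relation -/
def Eqv (k k' : G) : Prop := k⁻¹ * k' ∈ A.P

theorem eqv_refl (k : G) : A.Eqv k k := by simp [Eqv]

theorem Eqv.symm {k k' : G} (h : A.Eqv k k') : A.Eqv k' k := by
  simpa [Eqv] using inv_mem h

theorem Eqv.trans {k k' k'' : G} (h : A.Eqv k k') (h' : A.Eqv k' k'') : A.Eqv k k'' := by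
  have := mul_mem h h'
  unfold Eqv
  convert this using 1
  group

theorem eqv_left (g : G) {k k' : G} (h : A.Eqv k k') : A.Eqv (g * k) (g * k') := by
  unfold Eqv at h ⊢
  convert h using 1
  group

theorem eqv_mul {k p : G} (hp : p ∈ A.P) : A.Eqv (k * p) k := by
  simpa [Eqv] using inv_mem hp

/-- the image of the first coordinate vector -/
def img (k : G) : Vec F (n + 2) := act (A.π k) (vec 1 0 0)

theorem Eqv.img_eq {k k' : G} (h : A.Eqv k k') : A.img k = A.img k' := by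
  have h1 := A.P_fix h
  rw [eL_zero_eq, map_mul, map_inv, act_mul] at h1
  conv_lhs => rw [img, ← h1, act_act_inv]
  rfl

theorem img_mul (g k : G) : A.img (g * k) = act (A.π g) (A.img k) := by rw [img, map_mul, act_mul]; rfl

theorem z_mem_P (k : F) : A.z k ∈ A.P := A.xp_mem_P k

theorem mm_mem_P (t : F) : A.mm t ∈ A.P := A.m_mem_P 0 t

theorem q_mem_P (v : Vec F (n + 1)) : A.q hT v ∈ A.P := by
  rcases eq_or_ne v 0 with rfl | hv
  · rw [q_zero]; exact one_mem _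
  obtain ⟨g, hg, rfl⟩ := hT.trans v hv
  rw [tail_π, A.q_of hT hg]
  exact mul_mem (mul_mem (A.up_mem_P hg) (A.mm_mem_P 1)) (inv_mem (A.up_mem_P hg))

/-- `S 0` acting on head and tail -/
theorem act_S0 (M : SpecialLinearGroup (Fin 2) F) (a : F) (y : Vec F (n + 1)) (c : F) :
    act (A.π (A.S 0 M)) (vec a y c) = vec (M.1 0 0 * a + M.1 0 1 * c) y (M.1 1 0 * a + M.1 1 1 * c) := by
  funext l
  rcases l with l | l <;> simp only [πS_inl, πS_inr] <;>
    refine Fin.cases ?_ (fun i => ?_) l <;> simp [vec, Fin.succ_ne_zero]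

theorem hd0_q {c : F} (hc : c ≠ 0) (v : Vec F (n + 1)) :
    A.S 0 (hd c hc) * A.q hT v = A.q hT (c • v) * A.S 0 (hd c hc) := by
  rcases eq_or_ne v 0 with rfl | hv
  · simp [q_zero]
  obtain ⟨g, hg, rfl⟩ := hT.trans v hv
  have hcm : Commute (A.S 0 (hd c hc)) (A.up g) := (A.comm_S0 hg _).symm
  rw [tail_π, A.q_of hT hg, ← act_smul,
    show A.q hT (act (A.dn g) (c • eL F 0)) = A.up g * A.mm c * (A.up g)⁻¹ by
      rw [← A.q_e hT c, A.q_conj hT hg, mul_inv_cancel_right]]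
  calc _ = A.S 0 (hd c hc) * A.up g * A.mm 1 * (A.up g)⁻¹ := by group
    _ = A.up g * (A.S 0 (hd c hc) * A.mm 1) * (A.up g)⁻¹ := by rw [hcm.eq]; group
    _ = A.up g * A.mm c * (A.S 0 (hd c hc) * (A.up g)⁻¹) := by rw [A.hd0_mm hc, mul_one]; group
    _ = _ := by rw [hcm.inv_right.eq]; group

/-- representatives of the big cell -/
noncomputable def R (v : Vec F (n + 1)) (κ : F) (c : Fˣ) : G := A.q hT v * A.z κ * A.S 0 (dM c)

theorem img_R (v : Vec F (n + 1)) (κ : F) (c : Fˣ) :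
    A.img (A.R hT v κ c) = vec (κ * c) ((c : F) • v) (c : F) := by
  rw [img, R, map_mul, map_mul, act_mul, act_mul, act_S0, act_z, act_q, dM_coe]
  simp [om_zero_left, om]

/-- representatives off the big cell -/
noncomputable def sB (a : Fˣ) (y : Vec F (n + 1)) : G :=
  (A.S 0 (wS F))⁻¹ * A.q hT ((-(a : F)⁻¹) • y) * A.S 0 (dM (-a))

theorem img_sB (a : Fˣ) (y : Vec F (n + 1)) : A.img (A.sB hT a y) = vec (a : F) y 0 := by
  rw [img, sB, ← map_inv (A.S 0), map_mul, map_mul, act_mul, act_mul, act_S0, act_q, act_S0, dM_coe,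
    wS_inv_coe]
  have e : (-(a : F)) * (-(a : F)⁻¹) = 1 := by rw [neg_mul_neg, mul_inv_cancel₀ a.ne_zero]
  simp [om, smul_smul, e, a.ne_zero]

theorem comm_up_sB {g : ↥(pull A)} (hg : g ∈ A.tail.K) (a : Fˣ) (y : Vec F (n + 1)) :
    A.up g * A.sB hT a y = A.sB hT a (act (A.dn g) y) * A.up g := by
  have h1 : Commute (A.up g) (A.S 0 (wS F))⁻¹ := (A.comm_S0 hg _).inv_right
  have h2 : Commute (A.up g) (A.S 0 (dM (-a))) := A.comm_S0 hg _
  unfold sB
  rw [← act_smul]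
  calc _ = A.up g * (A.S 0 (wS F))⁻¹ * A.q hT ((-(a : F)⁻¹) • y) * A.S 0 (dM (-a)) := by group
    _ = (A.S 0 (wS F))⁻¹ * (A.up g * A.q hT ((-(a : F)⁻¹) • y)) * A.S 0 (dM (-a)) := by rw [h1.eq]; group
    _ = (A.S 0 (wS F))⁻¹ * A.q hT (act (A.dn g) ((-(a : F)⁻¹) • y)) * (A.up g * A.S 0 (dM (-a))) := by
        rw [A.q_conj hT hg]; group
    _ = _ := by rw [h2.eq]; group

theorem sB_zero (a : Fˣ) : A.sB hT a 0 = A.S 0 (hd (a : F) a.ne_zero) := by
  rw [sB, smul_zero, q_zero, mul_one, ← map_inv, ← map_mul]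
  congr 1
  refine Subtype.ext ?_
  rw [Matrix.SpecialLinearGroup.coe_mul, dM_coe, wS_inv_coe, hd_coe]
  ext i j
  fin_cases i <;> fin_cases j <;> simp

/-- the conjugate of a positive element by a representative -/
theorem a10_dM (u : F) (c : Fˣ) : A.a10 u * A.S 0 (dM c) = A.S 0 (dM c) * A.mm (-u * (c : F)⁻¹) := by
  refine A.eqL (mul_mem (A.a10_mem u) (A.S_mem_L 0 0 _)) (mul_mem (A.S_mem_L _ _ _) (A.mm_mem 0 _))
    (act_ext fun x => funext fun l => ?_)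
  simp only [map_mul, act_mul]
  rcases l with l | l <;> simp only [a10_inl, a10_inr, πmm_inl, πmm_inr, πS_inl, πS_inr, dM_coe] <;>
    rcases em01 l with rfl | rfl | ⟨h0, h1⟩ <;> simp [*] <;> field_simp <;> ring

theorem z_sB (κ : F) (a : Fˣ) (y : Vec F (n + 1)) : A.Eqv (A.z κ * A.sB hT a y) (A.sB hT a y) := by
  rcases eq_or_ne y 0 with rfl | hy
  · rw [sB_zero, show A.z κ * A.S 0 (hd (a : F) a.ne_zero) =
      A.S 0 (hd (a : F) a.ne_zero) * A.S 0 ((hd (a : F) a.ne_zero)⁻¹ * xp κ * hd (a : F) a.ne_zero) by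
      rw [z, ← map_mul, ← map_mul]; congr 1; group]
    refine A.eqv_mul ?_
    have : (hd (a : F) a.ne_zero)⁻¹ * xp κ * hd (a : F) a.ne_zero = xp ((a : F)⁻¹ * κ * (a : F)⁻¹) :=
      Subtype.ext (by
        rw [hd_inv', Matrix.SpecialLinearGroup.coe_mul, Matrix.SpecialLinearGroup.coe_mul, hd_coe, hd_coe, xp_coe,
          xp_coe]
        ext i j
        fin_cases i <;> fin_cases j <;> simp)
    rw [this]
    exact A.xp_mem_P _
  obtain ⟨g, hg, hgy⟩ := hT.trans ((-(a : F)⁻¹) • y) (smul_ne_zero (neg_ne_zero.2 (inv_ne_zero a.ne_zero)) hy)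
  rw [tail_π] at hgy
  have hy' : y = act (A.dn g) ((-(a : F)) • eL F 0) := by
    rw [act_smul, hgy, smul_smul, neg_mul_neg, mul_inv_cancel₀ a.ne_zero, one_smul]
  suffices h : A.Eqv (A.z κ * A.sB hT a ((-(a : F)) • eL F 0)) (A.sB hT a ((-(a : F)) • eL F 0)) by
    have h1 := A.eqv_left (A.up g) h
    have hc : Commute (A.up g) (A.z κ) := A.comm_S0 hg _
    rw [← mul_assoc, hc.eq, mul_assoc, A.comm_up_sB hT hg, ← mul_assoc, ← hy'] at h1
    exact ((A.eqv_mul (A.up_mem_P hg)).symm.trans _ h1).trans _ (A.eqv_mul (A.up_mem_P hg))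
  rw [show A.sB hT a ((-(a : F)) • eL F 0) = (A.S 0 (wS F))⁻¹ * A.mm 1 * A.S 0 (dM (-a)) by
    rw [sB, smul_smul, neg_mul_neg, inv_mul_cancel₀ a.ne_zero, A.q_e hT 1]]
  have e1 : A.S 0 (wS F) * A.z κ * (A.S 0 (wS F))⁻¹ = A.S 0 (xm (-κ)) := by
    rw [z, ← map_inv, ← map_mul, ← map_mul]
    congr 1
    rw [← xm_eq, neg_neg]
  have e2 : A.S 0 (xm (-κ)) * A.mm 1 = A.mm 1 * A.S 0 (xm (-κ)) * A.a10 κ * A.S 1 (xp κ) := by
    refine A.eqL (mul_mem (A.S_mem_L 0 0 _) (A.mm_mem 0 1))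
      (mul_mem (mul_mem (mul_mem (A.mm_mem 0 1) (A.S_mem_L _ _ _)) (A.a10_mem _)) (A.y_mem 0 _))
      (act_ext fun x => funext fun l => ?_)
    simp only [map_mul, act_mul]
    rcases l with l | l <;> simp only [a10_inl, a10_inr, πmm_inl, πmm_inr, πS_inl, πS_inr, xm_coe, xp_coe] <;>
      rcases em01 l with rfl | rfl | ⟨h0, h1⟩ <;> simp [*] <;> ring
  have e3 : A.S 0 (xm (-κ)) * A.S 0 (dM (-a)) = A.S 0 (dM (-a)) * A.S 0 (xp (κ / ((a : F) * a))) := by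
    rw [← map_mul, ← map_mul]
    congr 1
    refine Subtype.ext ?_
    rw [Matrix.SpecialLinearGroup.coe_mul, Matrix.SpecialLinearGroup.coe_mul, xm_coe, xp_coe, dM_coe]
    ext i j
    fin_cases i <;> fin_cases j <;> simp <;> field_simp
  have c1 : Commute (A.S 1 (xp κ)) (A.S 0 (dM (-a))) := A.hSS 1 0 (by simp) _ _
  rw [show A.z κ * ((A.S 0 (wS F))⁻¹ * A.mm 1 * A.S 0 (dM (-a))) =
    (A.S 0 (wS F))⁻¹ * ((A.S 0 (wS F) * A.z κ * (A.S 0 (wS F))⁻¹) * A.mm 1) * A.S 0 (dM (-a)) by group, e1, e2,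
    show (A.S 0 (wS F))⁻¹ * (A.mm 1 * A.S 0 (xm (-κ)) * A.a10 κ * A.S 1 (xp κ)) * A.S 0 (dM (-a)) =
      (A.S 0 (wS F))⁻¹ * A.mm 1 * A.S 0 (xm (-κ)) * A.a10 κ * (A.S 1 (xp κ) * A.S 0 (dM (-a))) by group, c1.eq,
    show (A.S 0 (wS F))⁻¹ * A.mm 1 * A.S 0 (xm (-κ)) * A.a10 κ * (A.S 0 (dM (-a)) * A.S 1 (xp κ)) =
      (A.S 0 (wS F))⁻¹ * A.mm 1 * A.S 0 (xm (-κ)) * (A.a10 κ * A.S 0 (dM (-a))) * A.S 1 (xp κ) by group, a10_dM,
    show ∀ p : G, (A.S 0 (wS F))⁻¹ * A.mm 1 * A.S 0 (xm (-κ)) * (A.S 0 (dM (-a)) * p) * A.S 1 (xp κ) =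
      (A.S 0 (wS F))⁻¹ * A.mm 1 * (A.S 0 (xm (-κ)) * A.S 0 (dM (-a))) * (p * A.S 1 (xp κ)) from fun p => by group,
    e3, show ∀ p r : G, (A.S 0 (wS F))⁻¹ * A.mm 1 * (A.S 0 (dM (-a)) * p) * r =
      (A.S 0 (wS F))⁻¹ * A.mm 1 * A.S 0 (dM (-a)) * (p * r) from fun p r => by group]
  exact A.eqv_mul (mul_mem (A.xp_mem_P _) (mul_mem (A.mm_mem_P _) (A.S_mem_P (by simp) _)))

theorem a01_eq_q (s : F) : A.a01 s = A.q hT ((-s) • eR F 0) := by
  have hm : A.q hT ((-s) • eR F 0) ∈ A.L 0 1 := by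
    have := A.plane_mem hT 0 (-s)
    rwa [zero_smul, zero_add] at this
  refine A.eqL (A.a01_mem s) hm (act_ext fun x => ?_)
  rw [← vc_eta x, act_q]
  funext l
  rcases l with l | l
  · rw [a01_inl]
    refine Fin.cases ?_ (fun i => ?_) l
    · rw [show (1 : Fin (n + 2)) = (0 : Fin (n + 1)).succ from rfl]
      simp [vec, om_smul_left, om_eR, tl, -neg_smul]
    · simp [vec, eR, Fin.succ_ne_zero]
  · rw [a01_inr]
    refine Fin.cases ?_ (fun i => ?_) l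
    · simp [vec]
    · refine Fin.cases ?_ (fun j => ?_) i
      · simp [vec, eR, mul_comm]
      · have h : j.succ.succ ≠ (1 : Fin (n + 2)) := fun e => Fin.succ_ne_zero j (Fin.succ_injective _ e)
        simp [vec, eR, Fin.succ_ne_zero, h]

theorem sB_step (hF : ∃ a : F, a ≠ 0 ∧ a ≠ 1) (a a' : Fˣ) (v y : Vec F (n + 1)) (h : (a' : F) = a + om v y) :
    A.Eqv (A.q hT v * A.sB hT a y) (A.sB hT a' y) := by
  -- the case of a nonzero change
  have main : ∀ (a a' : Fˣ) (v y : Vec F (n + 1)), (a' : F) = a + om v y → om v y ≠ 0 →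
      A.Eqv (A.q hT v * A.sB hT a y) (A.sB hT a' y) := by
    intro a a' v y h hne
    have hv : v ≠ 0 := fun e => hne (by rw [e, om_zero_left])
    obtain ⟨g, hg, hgv⟩ := hT.trans v hv
    rw [tail_π] at hgv
    obtain ⟨y1, hy1⟩ : ∃ y1, y = act (A.dn g) y1 := ⟨_, (act_act_inv _ y).symm⟩
    subst hy1
    rw [← hgv, om_act] at h hne
    rw [om_eL] at h hne
    obtain ⟨p, hp, hpy⟩ := hT.orbB y1 hne
    rw [tail_π] at hpy
    obtain ⟨b, hb⟩ : ∃ b, b = y1 (Sum.inr 0) := ⟨_, rfl⟩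
    rw [← hb] at h hne hpy
    -- the plane case
    have core : A.Eqv (A.mm 1 * A.sB hT a (b • eR F 0)) (A.sB hT a' (b • eR F 0)) := by
      have hq : A.q hT ((-(a : F)⁻¹) • b • eR F 0) = A.a01 ((a : F)⁻¹ * b) := by
        rw [a01_eq_q A hT, smul_smul, neg_mul]
      have hrel : 1 + 1 * ((a : F)⁻¹ * b) ≠ 0 := fun e => a'.ne_zero (by
        rw [h]; field_simp at e; linear_combination e)
      obtain ⟨s', u', α, β, hR⟩ := A.levi_rel hrel
      have cw : Commute (A.S 1 (hd (β : F) β.ne_zero)) (A.S 0 (dM (-a))) := A.hSS 1 0 (by simp) _ _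
      obtain ⟨c'', hc''⟩ : ∃ c'' : Fˣ, c'' = -a * α⁻¹ := ⟨_, rfl⟩
      have hk : A.mm 1 * A.sB hT a (b • eR F 0) = (A.S 0 (wS F))⁻¹ * A.a01 s' * A.S 0 (dM c'') *
          (A.S 1 (hd (β : F) β.ne_zero) * A.mm (-u' * ((-a : Fˣ) : F)⁻¹)) := by
        rw [sB, hq, show A.mm 1 * ((A.S 0 (wS F))⁻¹ * A.a01 ((a : F)⁻¹ * b) * A.S 0 (dM (-a))) =
          (A.S 0 (wS F))⁻¹ * (A.a10 1 * A.a01 ((a : F)⁻¹ * b)) * A.S 0 (dM (-a)) by unfold a10; group, hR,
          show (A.S 0 (wS F))⁻¹ * (A.a01 s' * A.tor α β * A.a10 u') * A.S 0 (dM (-a)) =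
            (A.S 0 (wS F))⁻¹ * A.a01 s' * A.tor α β * (A.a10 u' * A.S 0 (dM (-a))) by group, a10_dM, tor, hc'',
          ← hd_dM, map_mul]
        calc _ = (A.S 0 (wS F))⁻¹ * A.a01 s' * A.S 0 (hd (α : F) α.ne_zero) *
            (A.S 1 (hd (β : F) β.ne_zero) * A.S 0 (dM (-a))) * A.mm (-u' * ((-a : Fˣ) : F)⁻¹) := by group
          _ = _ := by rw [cw.eq]; group
      have hs : (A.S 0 (wS F))⁻¹ * A.a01 s' * A.S 0 (dM c'') = A.sB hT (-c'') ((-(c'' : F) * s') • eR F 0) := by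
        rw [sB, a01_eq_q A hT, neg_neg, smul_smul]
        congr 3
        rw [Units.val_neg, inv_neg, neg_neg, neg_mul, mul_neg, ← mul_assoc, inv_mul_cancel₀ c''.ne_zero, one_mul]
      have hE : A.Eqv (A.mm 1 * A.sB hT a (b • eR F 0)) (A.sB hT (-c'') ((-(c'' : F) * s') • eR F 0)) := by
        rw [hk, hs]
        exact A.eqv_mul (mul_mem (A.S_mem_P (by simp) _) (A.mm_mem_P _))
      have himg := hE.img_eq
      rw [img_mul, img_sB, img_sB, act_mm, one_smul, om_eL] at himg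
      obtain ⟨ha, hy, -⟩ := vc_inj.1 himg
      rw [show (b • eR F (0 : Fin (n + 1))) (Sum.inr 0) = b by simp [eR]] at ha
      have hc : -c'' = a' := Units.ext (ha.symm.trans h.symm)
      rw [hc, ← hy, zero_smul, add_zero] at hE
      exact hE
    -- transport
    have hgK : g * p ∈ A.tail.K := mul_mem hg (A.tail.P_le_K hp)
    have e1 : act (A.dn (g * p)) (eL F 0) = v := by
      rw [show A.dn (g * p) = A.dn g * A.dn p from rfl, act_mul,
        show act (A.dn p) (eL F (0 : Fin (n + 1))) = eL F 0 from A.tail.P_fix hp, hgv]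
    have e2 : act (A.dn (g * p)) (b • eR F 0) = act (A.dn g) y1 := by
      rw [show A.dn (g * p) = A.dn g * A.dn p from rfl, act_mul, hpy]
    have hgp : A.up (g * p) * A.mm 1 = A.q hT v * A.up (g * p) := by
      rw [← A.q_e hT 1, one_smul, A.q_conj hT hgK, e1]
    have h1 := A.eqv_left (A.up (g * p)) core
    rw [← mul_assoc, hgp, mul_assoc, A.comm_up_sB hT hgK, A.comm_up_sB hT hgK, e2, ← mul_assoc] at h1
    exact ((A.eqv_mul (A.up_mem_P hgK)).symm.trans _ h1).trans _ (A.eqv_mul (A.up_mem_P hgK))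
  rcases eq_or_ne (om v y) 0 with h0 | h0
  swap
  · exact main a a' v y h h0
  rw [h0, add_zero] at h
  obtain rfl : a' = a := Units.ext h
  rcases eq_or_ne v 0 with rfl | hv
  · rw [q_zero, one_mul]; exact A.eqv_refl _
  rcases eq_or_ne y 0 with rfl | hy
  · rw [sB_zero, show A.q hT v * A.S 0 (hd (a' : F) a'.ne_zero) =
      A.S 0 (hd (a' : F) a'.ne_zero) * A.q hT ((a' : F)⁻¹ • v) by
        rw [hd0_q, smul_smul, mul_inv_cancel₀ a'.ne_zero, one_smul]]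
    exact A.eqv_mul (A.q_mem_P hT _)
  obtain ⟨α, hα0, hα1⟩ := hF
  obtain ⟨u, hu⟩ := exists_om_one hy
  obtain ⟨v1, hv1⟩ : ∃ v1, v1 = (-(a' : F) * α) • u := ⟨_, rfl⟩
  have e1 : om v1 y = -(a' : F) * α := by rw [hv1, om_smul_left, hu, mul_one]
  have e2 : om (v - v1) y = (a' : F) * α := by
    have := om_add_left (v - v1) v1 y
    rw [sub_add_cancel, h0, e1] at this
    linear_combination -this
  have hne : (a' : F) + -(a' : F) * α ≠ 0 := fun e => hα1 (by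
    have h1 : (a' : F) * (1 - α) = 0 := by linear_combination e
    rcases mul_eq_zero.1 h1 with h2 | h2
    · exact absurd h2 a'.ne_zero
    · linear_combination -h2)
  have s1 := main a' (Units.mk0 _ hne) v1 y (by simp [e1]) (by rw [e1]; simp [hα0])
  have s2 := main (Units.mk0 _ hne) a' (v - v1) y (by simp [e2]) (by rw [e2]; simp [hα0])
  have hlaw : A.q hT (v - v1) * A.q hT v1 = A.q hT v * A.z (om (v - v1) v1) := by
    have := A.law hT ⟨α, hα0, hα1⟩ (v - v1) v1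
    rwa [Law, sub_add_cancel] at this
  have h3 := (A.eqv_left (A.q hT (v - v1)) s1).trans _ s2
  rw [← mul_assoc, hlaw, mul_assoc] at h3
  exact ((A.eqv_left _ (A.z_sB hT _ a' y)).symm).trans _ h3

theorem w0_R (v : Vec F (n + 1)) (κ : F) (hκ : κ ≠ 0) (c : Fˣ) :
    ∃ (v' : Vec F (n + 1)) (κ' : F) (c' : Fˣ), A.Eqv (A.S 0 (wS F) * A.R hT v κ c) (A.R hT v' κ' c') := by
  obtain ⟨c', hc'⟩ : ∃ c' : Fˣ, (c' : F) = -(κ * c) :=
    ⟨Units.mk0 _ (neg_ne_zero.2 (mul_ne_zero hκ c.ne_zero)), rfl⟩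
  obtain ⟨l, hl⟩ : ∃ l : F, l = -(κ * c * c)⁻¹ := ⟨_, rfl⟩
  have e : wS F * xp κ * dM c = xp (-κ⁻¹) * dM c' * xp l := Subtype.ext (by
    simp only [Matrix.SpecialLinearGroup.coe_mul, dM_coe, xp_coe, wS_coe, hc', hl]
    have := c.ne_zero
    ext i j
    fin_cases i <;> fin_cases j <;> simp <;> field_simp <;> ring)
  have eS : A.S 0 (wS F) * A.z κ * A.S 0 (dM c) = A.z (-κ⁻¹) * A.S 0 (dM c') * A.z l := by
    simp only [z, ← map_mul, e]
  rcases eq_or_ne v 0 with rfl | hv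
  · refine ⟨0, -κ⁻¹, c', ?_⟩
    rw [R, R, q_zero, one_mul, ← mul_assoc, eS, one_mul]
    exact A.eqv_mul (A.z_mem_P _)
  obtain ⟨g, hg, hgv⟩ := hT.trans v hv
  rw [tail_π] at hgv
  have cg : ∀ k : G, (∃ M, k = A.S 0 M) → A.up g * k = k * A.up g := by
    rintro _ ⟨M, rfl⟩; exact (A.comm_S0 hg M).eq
  -- the plane case
  obtain ⟨t, ht⟩ : ∃ t : F, t = -κ⁻¹ := ⟨_, rfl⟩
  have core : A.Eqv (A.S 0 (wS F) * A.R hT (eL F 0) κ c) (A.R hT (t • eL F 0) t c') := by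
    rw [R, R, A.q_e hT t, show eL F (0 : Fin (n + 1)) = (1 : F) • eL F 0 from (one_smul _ _).symm, A.q_e hT 1,
      show A.S 0 (wS F) * (A.mm 1 * A.z κ * A.S 0 (dM c)) =
        A.a10 1 * (A.S 0 (wS F) * A.z κ * A.S 0 (dM c)) by unfold a10; group, eS, ← ht,
      show A.a10 1 * (A.z t * A.S 0 (dM c') * A.z l) = (A.a10 1 * A.S 0 (xp t)) * A.S 0 (dM c') * A.z l by
        unfold z; group, a10_z, mul_one, one_mul,
      show A.S 0 (xp t) * A.mm t * A.S 1 (xp t) * A.a10 1 * A.S 0 (dM c') * A.z l =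
        A.S 0 (xp t) * A.mm t * A.S 1 (xp t) * (A.a10 1 * A.S 0 (dM c')) * A.z l by group, a10_dM]
    have c1 : Commute (A.S 1 (xp t)) (A.S 0 (dM c')) := A.hSS 1 0 (by simp) _ _
    rw [show ∀ p : G, A.S 0 (xp t) * A.mm t * A.S 1 (xp t) * (A.S 0 (dM c') * p) * A.z l =
      A.S 0 (xp t) * A.mm t * (A.S 1 (xp t) * A.S 0 (dM c')) * (p * A.z l) from fun p => by group, c1.eq,
      show A.S 0 (xp t) * A.mm t = A.mm t * A.z t from (A.z_mm t t).eq,
      show ∀ p : G, A.mm t * A.z t * (A.S 0 (dM c') * A.S 1 (xp t)) * p =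
        A.mm t * A.z t * A.S 0 (dM c') * (A.S 1 (xp t) * p) from fun p => by group]
    exact A.eqv_mul (mul_mem (A.S_mem_P (by simp) _) (mul_mem (A.mm_mem_P _) (A.z_mem_P _)))
  have hR : ∀ (u : Vec F (n + 1)) (k : F) (d : Fˣ),
      A.up g * A.R hT u k d = A.R hT (act (A.dn g) u) k d * A.up g := by
    intro u k d
    have hc : Commute (A.up g) (A.z k * A.S 0 (dM d)) := (A.comm_S0 hg _).mul_right (A.comm_S0 hg _)
    unfold R
    calc _ = A.up g * A.q hT u * (A.z k * A.S 0 (dM d)) := by group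
      _ = A.q hT (act (A.dn g) u) * (A.up g * (A.z k * A.S 0 (dM d))) := by rw [A.q_conj hT hg]; group
      _ = _ := by rw [hc.eq]; group
  have h1 := A.eqv_left (A.up g) core
  rw [← mul_assoc, cg _ ⟨_, rfl⟩, mul_assoc, hR, hR, hgv, ← mul_assoc] at h1
  exact ⟨_, _, _, ((A.eqv_mul (A.up_mem_P hg)).symm.trans _ h1).trans _ (A.eqv_mul (A.up_mem_P hg))⟩

end Amal

end CfsgLib.Recog.SlimSp
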