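import Cfsg.Agent.Lib.Recog.SlimSp.Levi

/-!
# The unipotent radical of the stabiliser of the first coordinate vector
-/

set_option autoImplicit false

namespace CfsgLib.Recog.SlimSp

open Matrix CfsgLib.Known.SpBounded

variable {F : Type*} [Field F]

attribute [local instance] Classical.propDecidable

theorem tl_smul {n : ℕ} (c : F) (x : Vec F (n + 1)) : tl (c • x) = c • tl x := rfl

theorem tl_add {n : ℕ} (x y : Vec F (n + 1)) : tl (x + y) = tl x + tl y := rfl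

theorem eL_zero_eq (n : ℕ) : eL F (0 : Fin (n + 1)) = vec 1 (0 : Vec F n) 0 := by
  funext l; rcases l with l | l <;> refine Fin.cases ?_ (fun i => ?_) l <;> simp [eL, vec]

theorem eR_zero_eq (n : ℕ) : eR F (0 : Fin (n + 1)) = vec 0 (0 : Vec F n) 1 := by
  funext l; rcases l with l | l <;> refine Fin.cases ?_ (fun i => ?_) l <;> simp [eR, vec]

theorem eL_succ_eq {n : ℕ} (i : Fin n) : eL F i.succ = vec 0 (eL F i) 0 := by
  funext l; rcases l with l | l <;> refine Fin.cases ?_ (fun j => ?_) l <;>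
    simp [eL, vec, Pi.single_apply, (Fin.succ_ne_zero _).symm]

theorem vc_smul {n : ℕ} (s a : F) (y : Vec F n) (c : F) : s • vec a y c = vec (s * a) (s • y) (s * c) := by
  funext l; rcases l with l | l <;> refine Fin.cases ?_ (fun i => ?_) l <;> simp [vec]

theorem exists_col {α β : F} (h : ¬(α = 0 ∧ β = 0)) :
    ∃ M : SpecialLinearGroup (Fin 2) F, M.1 0 0 = α ∧ M.1 1 0 = β := by
  by_cases hα : α = 0
  · have hβ : β ≠ 0 := fun e => h ⟨hα, e⟩
    exact ⟨⟨!![α, -β⁻¹; β, 0], by simp [Matrix.det_fin_two_of, hβ]⟩, rfl, rfl⟩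
  · exact ⟨⟨!![α, 0; β, α⁻¹], by simp [Matrix.det_fin_two_of, hα]⟩, rfl, rfl⟩

/-- the statements carried through the induction -/
structure OK {n : ℕ} {G : Type*} [Group G] (A : Amal F n G) : Prop where
  inj : ∀ k ∈ A.K, A.π k = 1 → k = 1
  trans : ∀ x : Vec F (n + 1), x ≠ 0 → ∃ k ∈ A.K, act (A.π k) (eL F 0) = x
  stab : ∀ k ∈ A.K, act (A.π k) (eL F 0) = eL F 0 → k ∈ A.P
  orbB : ∀ x : Vec F (n + 1), x (Sum.inr 0) ≠ 0 → ∃ p ∈ A.P, act (A.π p) (x (Sum.inr 0) • eR F 0) = x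
  orbC : ∀ i : Fin n, (i : ℕ) = 0 → ∀ x : Vec F (n + 1), x (Sum.inr 0) = 0 → tl x ≠ 0 →
    ∃ p ∈ A.P, act (A.π p) (eL F i.succ) = x

namespace Amal

variable {n : ℕ} {G : Type*} [Group G]

theorem P_fix (A : Amal F n G) {p : G} (hp : p ∈ A.P) : act (A.π p) (eL F 0) = eL F 0 := by
  induction hp using Subgroup.closure_induction with
  | one => rw [map_one, act_one]
  | mul a b _ _ ha hb => rw [map_mul, act_mul, hb, ha]
  | inv a _ ha => rw [map_inv]; conv_lhs => rw [← ha, act_inv_act]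
  | mem a ha =>
    rcases ha with (⟨t, rfl⟩ | ⟨j, hj, M, rfl⟩) | ha
    · funext l
      rcases l with l | l <;> simp only [A.πS_inl, A.πS_inr, xp_coe] <;> split_ifs <;> simp_all [eL]
    · funext l
      rcases l with l | l <;> simp only [A.πS_inl, A.πS_inr] <;> split_ifs <;> simp_all [eL, Pi.single_apply]
    · obtain ⟨i, t, rfl⟩ := Set.mem_iUnion.1 ha
      funext l
      rcases l with l | l <;> simp only [A.πm_inl, A.πm_inr] <;> simp [eL]

variable (A : Amal F (n + 1) G)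

/-- the element of the big group -/
abbrev up (g : ↥(pull A)) : G := g.1.2

/-- the element of the small symplectic group -/
abbrev dn (g : ↥(pull A)) : Spn F (n + 1) := g.1.1

theorem π_up (g : ↥(pull A)) : A.π (A.up g) = emb (n + 1) F (A.dn g) := (show emb (n + 1) F g.1.1 = A.π g.1.2 from g.2).symm

theorem act_up (g : ↥(pull A)) (a : F) (y : Vec F (n + 1)) (c : F) :
    act (A.π (A.up g)) (vec a y c) = vec a (act (A.dn g) y) c := by rw [π_up, emb_act]

theorem tail_π (g : ↥(pull A)) : A.tail.π g = A.dn g := rfl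

theorem up_S (j : Fin (n + 1)) (M : SpecialLinearGroup (Fin 2) F) : A.up (A.tail.S j M) = A.S j.succ M := rfl

theorem up_m (i : Fin n) (t : F) : A.up (A.tail.m i t) = A.m i.succ t := rfl

theorem up_mem_P {g : ↥(pull A)} (hg : g ∈ A.tail.K) : A.up g ∈ A.P := by
  induction hg using Subgroup.closure_induction with
  | one => exact one_mem _
  | mul a b _ _ ha hb => exact mul_mem ha hb
  | inv a _ ha => exact inv_mem ha
  | mem a ha =>
    rcases ha with ha | ha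
    · obtain ⟨j, M, rfl⟩ := Set.mem_iUnion.1 ha
      exact A.S_mem_P (Fin.succ_ne_zero j) M
    · obtain ⟨i, t, rfl⟩ := Set.mem_iUnion.1 ha
      exact A.m_mem_P i.succ t

theorem up_mem_K {g : ↥(pull A)} (hg : g ∈ A.tail.K) : A.up g ∈ A.K := A.P_le_K (A.up_mem_P hg)

theorem comm_S0 {g : ↥(pull A)} (hg : g ∈ A.tail.K) (M : SpecialLinearGroup (Fin 2) F) :
    Commute (A.up g) (A.S 0 M) := by
  induction hg using Subgroup.closure_induction with
  | one => exact Commute.one_left _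
  | mul a b _ _ ha hb => exact ha.mul_left hb
  | inv a _ ha => exact ha.inv_left
  | mem a ha =>
    rcases ha with ha | ha
    · obtain ⟨j, N, rfl⟩ := Set.mem_iUnion.1 ha
      exact A.hSS _ _ (Fin.succ_ne_zero j) _ _
    · obtain ⟨i, t, rfl⟩ := Set.mem_iUnion.1 ha
      refine A.m_comm_S ?_ (Fin.succ_ne_zero _).symm t M
      rw [Fin.castSucc_succ]
      exact (Fin.succ_ne_zero _).symm

theorem comm_mm {g : ↥(pull A)} (hg : g ∈ A.tail.P) (t : F) : Commute (A.up g) (A.mm t) := by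
  induction hg using Subgroup.closure_induction with
  | one => exact Commute.one_left _
  | mul a b _ _ ha hb => exact ha.mul_left hb
  | inv a _ ha => exact ha.inv_left
  | mem a ha =>
    rcases ha with (⟨u, rfl⟩ | ⟨j, hj, M, rfl⟩) | ha
    · exact (A.m_comm_xp 0 _ t u).symm
    · refine (A.m_comm_S ?_ ?_ t M).symm
      · exact Fin.succ_ne_zero _
      · intro e; exact hj (Fin.succ_injective _ e)
    · obtain ⟨i, u, rfl⟩ := Set.mem_iUnion.1 ha
      exact A.hmm _ _ u t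

/-- the root elements of the radical, by transport from the first one -/
noncomputable def q (hT : OK A.tail) (y : Vec F (n + 1)) : G :=
  if h : y = 0 then 1 else A.up (hT.trans y h).choose * A.mm 1 * (A.up (hT.trans y h).choose)⁻¹

variable (hT : OK A.tail)

theorem q_zero : A.q hT 0 = 1 := dif_pos rfl

theorem q_of {g : ↥(pull A)} (hg : g ∈ A.tail.K) :
    A.q hT (act (A.dn g) (eL F 0)) = A.up g * A.mm 1 * (A.up g)⁻¹ := by
  have hne : act (A.dn g) (eL F 0) ≠ 0 := act_ne_zero _ (fun e => by simpa [eL] using congrFun e (Sum.inl 0))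
  rw [q, dif_neg hne]
  obtain ⟨h1, h2⟩ := (hT.trans _ hne).choose_spec
  generalize (hT.trans _ hne).choose = h at h1 h2
  rw [tail_π] at h2
  have hP : g⁻¹ * h ∈ A.tail.P := hT.stab _ (mul_mem (inv_mem hg) h1) (by
    rw [map_mul, map_inv, act_mul, A.tail_π g, A.tail_π h, h2, act_inv_act])
  have hc : Commute ((A.up g)⁻¹ * A.up h) (A.mm 1) := A.comm_mm hP 1
  calc A.up h * A.mm 1 * (A.up h)⁻¹
      = A.up g * (((A.up g)⁻¹ * A.up h) * A.mm 1) * ((A.up g)⁻¹ * A.up h)⁻¹ * (A.up g)⁻¹ := by group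
    _ = _ := by rw [hc.eq]; group

theorem q_conj {g : ↥(pull A)} (hg : g ∈ A.tail.K) (y : Vec F (n + 1)) :
    A.up g * A.q hT y = A.q hT (act (A.dn g) y) * A.up g := by
  rcases eq_or_ne y 0 with rfl | hy
  · rw [act_zero, q_zero, one_mul, mul_one]
  obtain ⟨h, h1, h2⟩ := hT.trans y hy
  rw [tail_π] at h2
  subst h2
  rw [A.q_of hT h1, ← act_mul, show A.dn g * A.dn h = A.dn (g * h) from rfl, A.q_of hT (mul_mem hg h1)]
  show _ = A.up g * A.up h * A.mm 1 * (A.up g * A.up h)⁻¹ * A.up g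
  group

theorem q_e (t : F) : A.q hT (t • eL F 0) = A.mm t := by
  rcases eq_or_ne t 0 with rfl | ht
  · rw [zero_smul, q_zero, mm_zero]
  have hg : A.tail.S 0 (hd t ht) ∈ A.tail.K := A.tail.S_mem_K _ _
  have e : act (A.dn (A.tail.S 0 (hd t ht))) (eL F 0) = t • eL F 0 := by
    funext l
    rw [← tail_π]
    rcases l with l | l <;> simp only [Amal.πS_inl, Amal.πS_inr, hd_coe] <;>
      by_cases h : l = 0 <;> simp [h, eL]
  rw [← e, A.q_of hT hg, A.up_S, show (0 : Fin (n + 1)).succ = (1 : Fin (n + 2)) from rfl, A.hd1_mm ht,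
    mul_inv_cancel_right, mul_one]

theorem act_mm (t a : F) (y : Vec F (n + 1)) (c : F) :
    act (A.π (A.mm t)) (vec a y c) = vec (a + om (t • eL F 0) y) (y + c • (t • eL F 0)) c := by
  funext l
  rcases l with l | l
  · rw [πmm_inl]
    refine Fin.cases ?_ (fun i => ?_) l
    · rw [show (1 : Fin (n + 2)) = (0 : Fin (n + 1)).succ from rfl]
      simp [vec, om_smul_left, om_eL]
    · refine Fin.cases ?_ (fun j => ?_) i
      · simp [vec, eL, mul_comm]
      · have h : j.succ.succ ≠ (1 : Fin (n + 2)) := fun e => Fin.succ_ne_zero j (Fin.succ_injective _ e)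
        simp [vec, eL, Fin.succ_ne_zero, h]
  · rw [πmm_inr]
    refine Fin.cases ?_ (fun i => ?_) l <;> simp [vec, eL]

theorem act_q (v : Vec F (n + 1)) (a : F) (y : Vec F (n + 1)) (c : F) :
    act (A.π (A.q hT v)) (vec a y c) = vec (a + om v y) (y + c • v) c := by
  rcases eq_or_ne v 0 with rfl | hv
  · simp [q_zero, act_one, om_zero_left]
  obtain ⟨h, h1, h2⟩ := hT.trans v hv
  rw [tail_π] at h2
  subst h2
  rw [A.q_of hT h1, map_mul, map_mul, map_inv, act_mul, act_mul]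
  have e : act (A.π (A.up h))⁻¹ (vec a y c) = vec a (act (A.dn h)⁻¹ y) c := by
    conv_lhs => rw [← act_act_inv (A.dn h) y, ← A.act_up h, act_inv_act]
  rw [e, A.act_mm, A.act_up, one_smul, act_add, act_act_inv, act_smul]
  congr 2
  conv_rhs => rw [← om_act (A.dn h)⁻¹, act_inv_act]

/-- the central root elements -/
def z (k : F) : G := A.S 0 (xp k)

theorem z_add (k l : F) : A.z k * A.z l = A.z (k + l) := by
  rw [z, z, z, ← map_mul, xp_add]

theorem z_zero : A.z 0 = 1 := by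
  have h := A.z_add 0 0
  rw [add_zero] at h
  exact mul_eq_left.1 h

theorem z_mm (k t : F) : Commute (A.z k) (A.mm t) := (A.m_comm_xp 0 0 t k).symm

theorem z_q (k : F) (v : Vec F (n + 1)) : Commute (A.z k) (A.q hT v) := by
  rcases eq_or_ne v 0 with rfl | hv
  · rw [q_zero]; exact Commute.one_right _
  obtain ⟨h, h1, h2⟩ := hT.trans v hv
  rw [tail_π] at h2
  subst h2
  rw [A.q_of hT h1]
  have hc : Commute (A.z k) (A.up h) := (A.comm_S0 h1 _).symm
  exact (hc.mul_right (A.z_mm k 1)).mul_right hc.inv_right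

theorem act_z (k a : F) (y : Vec F (n + 1)) (c : F) : act (A.π (A.z k)) (vec a y c) = vec (a + k * c) y c := by
  funext l
  rcases l with l | l <;> simp only [z, πS_inl, πS_inr, xp_coe] <;>
    refine Fin.cases ?_ (fun i => ?_) l <;> simp [vec, (Fin.succ_ne_zero _)]

theorem π_qq (v w : Vec F (n + 1)) :
    A.π (A.q hT v * A.q hT w) = A.π (A.q hT (v + w) * A.z (om v w)) := by
  refine act_ext fun x => ?_
  rw [← vc_eta x, map_mul, map_mul, act_mul, act_mul, act_q, act_q, act_z, act_q, om_add_left, om_add_right,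
    om_smul_right]
  congr 1
  · ring
  · rw [smul_add]; abel

/-- the multiplication law for a pair of vectors -/
def Law (v w : Vec F (n + 1)) : Prop := A.q hT v * A.q hT w = A.q hT (v + w) * A.z (om v w)

theorem law_conj {g : ↥(pull A)} (hg : g ∈ A.tail.K) {v w : Vec F (n + 1)} (h : A.Law hT v w) :
    A.Law hT (act (A.dn g) v) (act (A.dn g) w) := by
  unfold Law at h ⊢
  have e : ∀ y, A.q hT (act (A.dn g) y) = A.up g * A.q hT y * (A.up g)⁻¹ := fun y => by
    rw [A.q_conj hT hg, mul_inv_cancel_right]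
  have hc : Commute (A.z (om v w)) (A.up g) := (A.comm_S0 hg _).symm
  rw [← act_add, e, e, e, om_act, show A.up g * A.q hT v * (A.up g)⁻¹ * (A.up g * A.q hT w * (A.up g)⁻¹) =
    A.up g * (A.q hT v * A.q hT w) * (A.up g)⁻¹ by group, h]
  calc _ = A.up g * A.q hT (v + w) * (A.z (om v w) * (A.up g)⁻¹) := by group
    _ = _ := by rw [hc.inv_right.eq]; group

theorem plane_mem (α β : F) : A.q hT (α • eL F 0 + β • eR F 0) ∈ A.L 0 1 := by
  by_cases h : α = 0 ∧ β = 0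
  · rw [h.1, h.2, zero_smul, zero_smul, add_zero, q_zero]; exact one_mem _
  obtain ⟨M, hM0, hM1⟩ := exists_col h
  have hg : A.tail.S 0 M ∈ A.tail.K := A.tail.S_mem_K _ _
  have e : act (A.dn (A.tail.S 0 M)) (eL F 0) = α • eL F 0 + β • eR F 0 := by
    funext l
    rw [← tail_π]
    rcases l with l | l <;> simp only [Amal.πS_inl, Amal.πS_inr] <;>
      by_cases h : l = 0 <;> simp [h, eL, eR, hM0, hM1]
  rw [← e, A.q_of hT hg]
  exact mul_mem (mul_mem (A.S_mem_L 0 1 M) (A.mm_mem 1 1)) (inv_mem (A.S_mem_L 0 1 M))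

theorem law_plane (α β : F) : A.Law hT (eL F 0) (α • eL F 0 + β • eR F 0) := by
  have h1 : eL F (0 : Fin (n + 1)) = (1 : F) • eL F 0 + (0 : F) • eR F 0 := by simp
  have h2 : eL F (0 : Fin (n + 1)) + (α • eL F 0 + β • eR F 0) = (1 + α) • eL F 0 + β • eR F 0 := by
    rw [add_smul, one_smul]; abel
  refine A.eqL (mul_mem ?_ (A.plane_mem hT α β)) (mul_mem ?_ (A.z_mem 1 _)) (A.π_qq hT _ _)
  · rw [h1]; exact A.plane_mem hT 1 0
  · rw [h2]; exact A.plane_mem hT _ _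

theorem law_zero (w : Vec F (n + 1)) : A.Law hT 0 w := by
  simp [Law, q_zero, z_zero, om_zero_left]

end Amal

namespace Amal

variable {n : ℕ} {G : Type*} [Group G] (A : Amal F (n + 2) G) (hT : OK A.tail)

theorem conj_mm_eq {v : F} (hv : v ≠ 0) :
    A.q hT (v • eL F 0 + eL F 1) =
      A.mm v * ((A.m 1 1)⁻¹ * (A.a01 1 * A.m 1 1 * (A.a01 1)⁻¹)) := by
  have hg : A.tail.a10 v⁻¹ ∈ A.tail.K :=
    mul_mem (mul_mem (A.tail.S_mem_K _ _) (A.tail.m_mem_K _ _)) (inv_mem (A.tail.S_mem_K _ _))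
  have e : act (A.dn (A.tail.a10 v⁻¹)) (v • eL F 0) = v • eL F 0 + eL F 1 := by
    funext l
    rw [← tail_π]
    rcases l with l | l <;> simp only [Amal.a10_inl, Amal.a10_inr] <;>
      rcases em01 l with rfl | rfl | ⟨h0, h1⟩ <;> simp [*, eL]
  obtain ⟨X, hX⟩ : ∃ X, X = A.up (A.tail.a10 v⁻¹) := ⟨_, rfl⟩
  have hq : A.q hT (v • eL F 0 + eL F 1) = X * A.mm v * X⁻¹ := by
    rw [← e, ← A.q_e hT v, hX, A.q_conj hT hg, mul_inv_cancel_right]
  have hXy : X * A.S 1 (xp v) * X⁻¹ = A.S 1 (xp v) * A.m 1 1 * A.S 2 (xp v⁻¹) := by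
    have h : A.tail.a10 v⁻¹ * A.tail.S 0 (xp v) =
        A.tail.S 0 (xp v) * A.tail.mm 1 * A.tail.S 1 (xp v⁻¹) * A.tail.a10 v⁻¹ := by
      have h0 := A.tail.a10_z v⁻¹ v
      rwa [inv_mul_cancel₀ hv, show v⁻¹ * v⁻¹ * v = v⁻¹ by field_simp] at h0
    have h' : X * A.S 1 (xp v) = A.S 1 (xp v) * A.m 1 1 * A.S 2 (xp v⁻¹) * X := hX ▸ congrArg A.up h
    rw [h', mul_inv_cancel_right]
  have hXB : Commute X (A.a01 1) := by
    rw [hX, show A.up (A.tail.a10 v⁻¹) = A.S 1 (wS F) * A.m 1 v⁻¹ * (A.S 1 (wS F))⁻¹ from rfl, a01]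
    exact (A.hmm 1 0 v⁻¹ 1).map (MulAut.conj (A.S 1 (wS F))).toMonoidHom
  have hXz : Commute X (A.S 0 (xp v)) := hX ▸ A.comm_S0 hg _
  have hQB : Commute (A.S 2 (xp v⁻¹)) (A.a01 1) := by
    have h1 : Commute (A.S 2 (xp v⁻¹)) (A.S 1 (wS F)) := A.hSS _ _ (by rw [Ne, Fin.ext_iff]; simp [Nat.mod_eq_of_lt (show 2 < n + 2 + 1 by omega)]) _ _
    exact (h1.mul_right (A.m_comm_xp 0 _ 1 _).symm).mul_right h1.inv_right
  obtain ⟨B, hB⟩ : ∃ B, B = A.a01 1 := ⟨_, rfl⟩
  obtain ⟨y, hy⟩ : ∃ y, y = A.S 1 (xp v) := ⟨_, rfl⟩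
  obtain ⟨M, hM⟩ : ∃ M, M = A.m 1 1 := ⟨_, rfl⟩
  obtain ⟨Q, hQ⟩ : ∃ Q, Q = A.S 2 (xp v⁻¹) := ⟨_, rfl⟩
  obtain ⟨Z, hZ⟩ : ∃ Z, Z = A.S 0 (xp v) := ⟨_, rfl⟩
  have hBy : B * y = y * A.mm v * Z * B := by
    rw [hB, hy, hZ]; simpa using A.a01_y 1 v
  rw [← hy, ← hM, ← hQ] at hXy
  rw [← hB] at hXB
  rw [← hZ] at hXz
  rw [← hQ, ← hB] at hQB
  have e1 : A.mm v = y⁻¹ * B * y * B⁻¹ * Z⁻¹ := by
    rw [show y⁻¹ * B * y = y⁻¹ * (B * y) by group, hBy]; group
  have c1 : X * B * X⁻¹ = B := by rw [hXB.eq, mul_inv_cancel_right]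
  have c2 : X * Z * X⁻¹ = Z := by rw [hXz.eq, mul_inv_cancel_right]
  have c3 : Commute Q (A.mm v) := hQ ▸ (A.m_comm_xp 0 _ v _).symm
  have c4 : Commute Q Z := by
    rw [hQ, hZ]; exact A.hSS _ _ (by rw [Ne, Fin.ext_iff]; simp [Nat.mod_eq_of_lt (show 2 < n + 2 + 1 by omega)]) _ _
  have c5 : Commute Q M := by rw [hQ, hM]; exact (A.m_comm_xp 1 _ 1 _).symm
  have c6 : Commute M (A.mm v) := hM ▸ A.hmm 1 0 1 v
  have c7 : Commute Z M := by rw [hZ, hM]; exact (A.m_comm_xp 1 _ 1 _).symm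
  have c8 : Commute Z B := by
    rw [hZ, hB]
    exact (A.a01_z 1 v).symm
  have c9 : Commute Z (A.mm v) := by rw [hZ]; exact (A.m_comm_xp 0 _ v v).symm
  rw [hq, ← hB, ← hM]
  calc X * A.mm v * X⁻¹
      = (X * y * X⁻¹)⁻¹ * (X * B * X⁻¹) * (X * y * X⁻¹) * (X * B * X⁻¹)⁻¹ * (X * Z * X⁻¹)⁻¹ := by
        rw [e1]; group
    _ = Q⁻¹ * M⁻¹ * y⁻¹ * ((B * y) * M * Q) * B⁻¹ * Z⁻¹ := by rw [hXy, c1, c2]; group
    _ = Q⁻¹ * M⁻¹ * (A.mm v * Z) * (B * M) * (Q * B⁻¹) * Z⁻¹ := by rw [hBy]; group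
    _ = Q⁻¹ * (M⁻¹ * (A.mm v * Z) * (B * M * B⁻¹)) * Q * Z⁻¹ := by rw [hQB.inv_right.eq]; group
    _ = (M⁻¹ * (A.mm v * Z) * (B * M * B⁻¹)) * Z⁻¹ := by
        rw [(((c5.inv_right.mul_right (c3.mul_right c4)).mul_right
          ((hQB.mul_right c5).mul_right hQB.inv_right)).inv_left).eq, inv_mul_cancel_right]
    _ = M⁻¹ * A.mm v * ((B * M * B⁻¹) * Z) * Z⁻¹ := by
        rw [← ((c8.mul_right c7).mul_right c8.inv_right).eq]; group
    _ = _ := by rw [c6.inv_left.eq]; group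

theorem law_e1 (hF : ∃ a : F, a ≠ 0 ∧ a ≠ 1) : A.Law hT (eL F 0) (eL F 1) := by
  obtain ⟨α, hα0, hα1⟩ := hF
  have hs : (-α : F) ≠ 0 := neg_ne_zero.2 hα0
  have hs1 : (1 + -α : F) ≠ 0 := fun e => hα1 (by linear_combination -e)
  have h : A.Law hT (eL F 0) ((-α) • eL F 0 + eL F 1) := by
    unfold Law
    have hom : om (eL F (0 : Fin (n + 2))) ((-α) • eL F 0 + eL F 1) = 0 := by
      rw [om_eL]; simp [eL]
    have h0 : A.q hT (eL F 0) = A.mm 1 := by rw [← A.q_e hT 1, one_smul]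
    rw [hom, z_zero, mul_one, show eL F (0 : Fin (n + 2)) + ((-α) • eL F 0 + eL F 1) =
      (1 + -α) • eL F 0 + eL F 1 by rw [add_smul, one_smul]; abel,
      A.conj_mm_eq hT hs, A.conj_mm_eq hT hs1, h0, ← mul_assoc, mm_add]
  have hg : A.tail.a01 α ∈ A.tail.K :=
    mul_mem (mul_mem (A.tail.S_mem_K _ _) (A.tail.m_mem_K _ _)) (inv_mem (A.tail.S_mem_K _ _))
  have h' := A.law_conj hT hg h
  have e1 : act (A.dn (A.tail.a01 α)) (eL F 0) = eL F 0 := by
    funext l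
    rw [← tail_π]
    rcases l with l | l <;> simp only [Amal.a01_inl, Amal.a01_inr] <;> simp [eL]
  have e2 : act (A.dn (A.tail.a01 α)) (eL F 1) = α • eL F 0 + eL F 1 := by
    funext l
    rw [← tail_π]
    rcases l with l | l <;> simp only [Amal.a01_inl, Amal.a01_inr] <;>
      rcases em01 l with rfl | rfl | ⟨h0, h1⟩ <;> simp [*, eL]
  rw [act_add, act_smul, e1, e2] at h'
  convert h' using 1
  rw [← add_assoc, ← add_smul, neg_add_cancel, zero_smul, zero_add]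

end Amal

namespace Amal

variable {n : ℕ} {G : Type*} [Group G] (A : Amal F (n + 1) G) (hT : OK A.tail)

/-- the multiplication law of the radical -/
theorem law (hF : ∃ a : F, a ≠ 0 ∧ a ≠ 1) (v w : Vec F (n + 1)) : A.Law hT v w := by
  rcases eq_or_ne v 0 with rfl | hv
  · exact A.law_zero hT w
  obtain ⟨g, hg, rfl⟩ := hT.trans v hv
  rw [← act_act_inv (A.tail.π g) w]
  refine A.law_conj hT hg ?_
  generalize act (A.tail.π g)⁻¹ w = w'
  by_cases hb : w' (Sum.inr 0) = 0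
  swap
  · obtain ⟨p, hp, hpw⟩ := hT.orbB w' hb
    have h := A.law_conj hT (A.tail.P_le_K hp) (A.law_plane hT 0 (w' (Sum.inr 0)))
    rw [zero_smul, zero_add] at h
    rwa [← tail_π, A.tail.P_fix hp, hpw] at h
  by_cases ht : tl w' = 0
  · have e : w' = w' (Sum.inl 0) • eL F 0 + (0 : F) • eR F 0 := by
      conv_lhs => rw [← vc_eta w', hb, ht]
      rw [eL_zero_eq, vc_smul, zero_smul, add_zero, smul_zero, mul_one, mul_zero]
    rw [e]
    exact A.law_plane hT _ _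
  cases n with
  | zero => exact absurd (funext fun l => by rcases l with l | l <;> exact l.elim0) ht
  | succ n =>
    obtain ⟨p, hp, hpw⟩ := hT.orbC 0 rfl w' hb ht
    have h := A.law_conj hT (A.tail.P_le_K hp) (A.law_e1 hT hF)
    rwa [← tail_π, A.tail.P_fix hp, show (1 : Fin (n + 2)) = (0 : Fin (n + 1)).succ from rfl, hpw] at h

end Amal

end CfsgLib.Recog.SlimSp
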