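import Cfsg.Agent.Lib.Recog.SlimSp.RankTwo

/-!
# The Levi relation of the first pair
-/

set_option autoImplicit false

namespace CfsgLib.Recog.SlimSp

open Matrix CfsgLib.Known.SpBounded

variable {F : Type*} [Field F]

namespace Amal

variable {n : ℕ} {G : Type*} [Group G] (A : Amal F (n + 1) G)

/-- Weyl element of the Levi part -/
def Wt (t : F) : G := A.a01 t * A.a10 (-t⁻¹) * A.a01 t

/-- Weyl element of the Levi part -/
def W : G := A.Wt 1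

theorem W_mem_N : A.W ∈ A.N := mul_mem (mul_mem (A.a01_mem_N _) (A.a10_mem_N _)) (A.a01_mem_N _)

theorem W_inl (x : Vec F (n + 2)) (l : Fin (n + 2)) : act (A.π A.W) x (Sum.inl l) =
    if l = 0 then x (Sum.inl 1) else if l = 1 then -x (Sum.inl 0) else x (Sum.inl l) := by
  simp only [W, Wt, map_mul, act_mul, a01_inl, a10_inl]
  rcases em01 l with rfl | rfl | ⟨h0, h1⟩ <;> simp [*]

theorem W_inr (x : Vec F (n + 2)) (l : Fin (n + 2)) : act (A.π A.W) x (Sum.inr l) =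
    if l = 0 then x (Sum.inr 1) else if l = 1 then -x (Sum.inr 0) else x (Sum.inr l) := by
  simp only [W, Wt, map_mul, act_mul, a01_inr, a10_inr]
  rcases em01 l with rfl | rfl | ⟨h0, h1⟩ <;> simp [*]

theorem π_conj {g a b : G} (e : A.π (g * a) = A.π (b * g)) : A.π (g * a * g⁻¹) = A.π b := by
  rw [map_mul, e, map_mul, map_inv, mul_inv_cancel_right]

theorem W_S1 (M : SpecialLinearGroup (Fin 2) F) : A.W * A.S 1 M * A.W⁻¹ = A.S 0 M := by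
  refine DFunLike.congr_fun (CfsgLib.CTBond.hom_ext (f := (MulAut.conj A.W).toMonoidHom.comp (A.S 1))
    (g := A.S 0) (fun t => ?_) (fun t => ?_)) M
  · show A.W * A.S 1 (xp t) * A.W⁻¹ = A.S 0 (xp t)
    refine A.eqU (A.N_norm A.W_mem_N _ (A.y_mem_U t)).1 (A.z_mem_U t)
      (A.π_conj (act_ext fun x => funext fun l => ?_))
    simp only [map_mul, act_mul]
    rcases l with l | l <;> simp only [W_inl, W_inr, πS_inl, πS_inr, xp_coe] <;>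
      rcases em01 l with rfl | rfl | ⟨h0, h1⟩ <;> simp [*]
  · show A.W * A.S 1 (xm t) * A.W⁻¹ = A.S 0 (xm t)
    have hπ : A.π (A.W * A.S 1 (xm t) * A.W⁻¹) = A.π (A.S 0 (xm t)) := by
      refine A.π_conj (act_ext fun x => funext fun l => ?_)
      simp only [map_mul, act_mul]
      rcases l with l | l <;> simp only [W_inl, W_inr, πS_inl, πS_inr, xm_coe] <;>
        rcases em01 l with rfl | rfl | ⟨h0, h1⟩ <;> simp [*]
    have hu := (A.N_norm (A.cc_N A.W_mem_N) _ (A.y_mem_U (-t))).1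
    rw [A.cc_xm1, show A.W * (A.cc * A.S 1 (xp (-t)) * A.cc⁻¹) * A.W⁻¹ =
      A.cc * ((A.cc⁻¹ * A.W * A.cc) * A.S 1 (xp (-t)) * (A.cc⁻¹ * A.W * A.cc)⁻¹) * A.cc⁻¹ by group,
      A.cc_xm0] at hπ ⊢
    rw [A.eqU hu (A.z_mem_U (-t)) (by
      simpa only [map_mul, map_inv, mul_left_inj, mul_right_inj] using hπ)]

theorem W_S0 (M : SpecialLinearGroup (Fin 2) F) : A.W * A.S 0 M * A.W⁻¹ = A.S 1 M := by
  refine DFunLike.congr_fun (CfsgLib.CTBond.hom_ext (f := (MulAut.conj A.W).toMonoidHom.comp (A.S 0))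
    (g := A.S 1) (fun t => ?_) (fun t => ?_)) M
  · show A.W * A.S 0 (xp t) * A.W⁻¹ = A.S 1 (xp t)
    refine A.eqU (A.N_norm A.W_mem_N _ (A.z_mem_U t)).1 (A.y_mem_U t)
      (A.π_conj (act_ext fun x => funext fun l => ?_))
    simp only [map_mul, act_mul]
    rcases l with l | l <;> simp only [W_inl, W_inr, πS_inl, πS_inr, xp_coe] <;>
      rcases em01 l with rfl | rfl | ⟨h0, h1⟩ <;> simp [*] <;> ring
  · show A.W * A.S 0 (xm t) * A.W⁻¹ = A.S 1 (xm t)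
    have hπ : A.π (A.W * A.S 0 (xm t) * A.W⁻¹) = A.π (A.S 1 (xm t)) := by
      refine A.π_conj (act_ext fun x => funext fun l => ?_)
      simp only [map_mul, act_mul]
      rcases l with l | l <;> simp only [W_inl, W_inr, πS_inl, πS_inr, xm_coe] <;>
        rcases em01 l with rfl | rfl | ⟨h0, h1⟩ <;> simp [*] <;> ring
    have hu := (A.N_norm (A.cc_N A.W_mem_N) _ (A.z_mem_U (-t))).1
    rw [A.cc_xm0, show A.W * (A.cc * A.S 0 (xp (-t)) * A.cc⁻¹) * A.W⁻¹ =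
      A.cc * ((A.cc⁻¹ * A.W * A.cc) * A.S 0 (xp (-t)) * (A.cc⁻¹ * A.W * A.cc)⁻¹) * A.cc⁻¹ by group,
      A.cc_xm1] at hπ ⊢
    rw [A.eqU hu (A.y_mem_U (-t)) (by
      simpa only [map_mul, map_inv, mul_left_inj, mul_right_inj] using hπ)]

theorem a01_expr (s : F) :
    A.a01 s = A.S 1 (xm (-s)) * A.mm 1 * A.S 1 (xm s) * A.S 0 (xp s) * A.mm (-1) := by
  refine A.eqL (A.a01_mem s) (mul_mem (mul_mem (mul_mem (mul_mem (A.S_mem_L 0 1 _) (A.mm_mem 1 1))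
    (A.S_mem_L _ _ _)) (A.z_mem 1 s)) (A.mm_mem 1 _)) (act_ext fun x => funext fun l => ?_)
  simp only [map_mul, act_mul]
  rcases l with l | l <;>
    simp only [a01_inl, a01_inr, πmm_inl, πmm_inr, πS_inl, πS_inr, xp_coe, xm_coe] <;>
    rcases em01 l with rfl | rfl | ⟨h0, h1⟩ <;> simp [*] <;> ring

theorem W_a01 (s : F) : A.W * A.a01 s * A.W⁻¹ = A.a10 (-s) := by
  refine A.eqL (i := 0) (j := 0) ?_ (A.a10_mem _) (A.π_conj (act_ext fun x => funext fun l => ?_))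
  · rw [a01_expr]
    have hm : ∀ t, A.W * A.mm t * A.W⁻¹ ∈ A.L 0 0 := fun t =>
      A.U_le 0 (A.N_norm A.W_mem_N _ (A.mm_mem_U t)).1
    rw [show A.W * (A.S 1 (xm (-s)) * A.mm 1 * A.S 1 (xm s) * A.S 0 (xp s) * A.mm (-1)) * A.W⁻¹ =
      (A.W * A.S 1 (xm (-s)) * A.W⁻¹) * (A.W * A.mm 1 * A.W⁻¹) * (A.W * A.S 1 (xm s) * A.W⁻¹) *
      (A.W * A.S 0 (xp s) * A.W⁻¹) * (A.W * A.mm (-1) * A.W⁻¹) by group, W_S1, W_S1, W_S0]
    exact mul_mem (mul_mem (mul_mem (mul_mem (A.S_mem_L _ _ _) (hm _)) (A.S_mem_L _ _ _)) (A.y_mem _ _)) (hm _)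
  · simp only [map_mul, act_mul]
    rcases l with l | l <;> simp only [W_inl, W_inr, a01_inl, a01_inr, a10_inl, a10_inr] <;>
      rcases em01 l with rfl | rfl | ⟨h0, h1⟩ <;> simp [*] <;> ring

theorem hd0_mm {c : F} (hc : c ≠ 0) (t : F) :
    A.S 0 (hd c hc) * A.mm t = A.mm (c * t) * A.S 0 (hd c hc) := by
  refine A.eqL (mul_mem (A.S_mem_L 0 0 _) (A.mm_mem 0 t)) (mul_mem (A.mm_mem 0 _) (A.S_mem_L _ _ _))
    (act_ext fun x => funext fun l => ?_)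
  simp only [map_mul, act_mul]
  rcases l with l | l <;> simp only [πmm_inl, πmm_inr, πS_inl, πS_inr, hd_coe] <;>
    rcases em01 l with rfl | rfl | ⟨h0, h1⟩ <;> simp [*] <;> field_simp

theorem hd1_mm {c : F} (hc : c ≠ 0) (t : F) :
    A.S 1 (hd c hc) * A.mm t = A.mm (c * t) * A.S 1 (hd c hc) := by
  refine A.eqL (mul_mem (A.S_mem_L 0 1 _) (A.mm_mem 1 t)) (mul_mem (A.mm_mem 1 _) (A.S_mem_L _ _ _))
    (act_ext fun x => funext fun l => ?_)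
  simp only [map_mul, act_mul]
  rcases l with l | l <;> simp only [πmm_inl, πmm_inr, πS_inl, πS_inr, hd_coe] <;>
    rcases em01 l with rfl | rfl | ⟨h0, h1⟩ <;> simp [*] <;> field_simp

theorem hd1_a01 {c : F} (hc : c ≠ 0) (s : F) :
    A.S 1 (hd c hc) * A.a01 s = A.a01 (c⁻¹ * s) * A.S 1 (hd c hc) := by
  refine A.eqL (mul_mem (A.S_mem_L 0 1 _) (A.a01_mem s)) (mul_mem (A.a01_mem _) (A.S_mem_L _ _ _))
    (act_ext fun x => funext fun l => ?_)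
  simp only [map_mul, act_mul]
  rcases l with l | l <;> simp only [a01_inl, a01_inr, πS_inl, πS_inr, hd_coe] <;>
    rcases em01 l with rfl | rfl | ⟨h0, h1⟩ <;> simp [*] <;> field_simp

theorem hd0_a01 {c : F} (hc : c ≠ 0) (s : F) :
    A.S 0 (hd c hc) * A.a01 s = A.a01 (c * s) * A.S 0 (hd c hc) := by
  unfold a01
  have h1 : Commute (A.S 0 (hd c hc)) (A.S 1 (wS F)) := A.hSS 0 1 (by simp) _ _
  calc _ = A.S 0 (hd c hc) * A.S 1 (wS F) * A.mm s * (A.S 1 (wS F))⁻¹ := by group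
    _ = A.S 1 (wS F) * (A.S 0 (hd c hc) * A.mm s) * (A.S 1 (wS F))⁻¹ := by rw [h1.eq]; group
    _ = A.S 1 (wS F) * A.mm (c * s) * (A.S 0 (hd c hc) * (A.S 1 (wS F))⁻¹) := by rw [hd0_mm]; group
    _ = _ := by rw [h1.inv_right.eq]; group

theorem hd1_a10 {c : F} (hc : c ≠ 0) (s : F) :
    A.S 1 (hd c hc) * A.a10 s = A.a10 (c * s) * A.S 1 (hd c hc) := by
  unfold a10
  have h1 : Commute (A.S 1 (hd c hc)) (A.S 0 (wS F)) := A.hSS 1 0 (by simp) _ _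
  calc _ = A.S 1 (hd c hc) * A.S 0 (wS F) * A.mm s * (A.S 0 (wS F))⁻¹ := by group
    _ = A.S 0 (wS F) * (A.S 1 (hd c hc) * A.mm s) * (A.S 0 (wS F))⁻¹ := by rw [h1.eq]; group
    _ = A.S 0 (wS F) * A.mm (c * s) * (A.S 1 (hd c hc) * (A.S 0 (wS F))⁻¹) := by rw [hd1_mm]; group
    _ = _ := by rw [h1.inv_right.eq]; group

/-- torus elements -/
noncomputable def tor (a b : Fˣ) : G := A.S 0 (hd (a : F) a.ne_zero) * A.S 1 (hd (b : F) b.ne_zero)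

theorem tor_mul (a b a' b' : Fˣ) : A.tor a b * A.tor a' b' = A.tor (a * a') (b * b') := by
  have h : Commute (A.S 1 (hd (b : F) b.ne_zero)) (A.S 0 (hd (a' : F) a'.ne_zero)) := A.hSS 1 0 (by simp) _ _
  unfold tor
  simp only [Units.val_mul, ← hd_mul' a.ne_zero a'.ne_zero, ← hd_mul' b.ne_zero b'.ne_zero, map_mul]
  calc _ = A.S 0 (hd (a : F) a.ne_zero) * (A.S 1 (hd (b : F) b.ne_zero) * A.S 0 (hd (a' : F) a'.ne_zero)) *
      A.S 1 (hd (b' : F) b'.ne_zero) := by group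
    _ = _ := by rw [h.eq]; group

theorem tor_one : A.tor 1 1 = 1 := by
  have h := A.tor_mul 1 1 1 1
  rw [one_mul] at h
  exact mul_eq_left.1 h

theorem tor_inv (a b : Fˣ) : (A.tor a b)⁻¹ = A.tor a⁻¹ b⁻¹ :=
  inv_eq_of_mul_eq_one_right (by rw [tor_mul, mul_inv_cancel, mul_inv_cancel, tor_one])

theorem tor_a01 (a b : Fˣ) (s : F) : A.tor a b * A.a01 s = A.a01 ((a : F) * ((b : F)⁻¹ * s)) * A.tor a b := by
  unfold tor
  rw [mul_assoc, hd1_a01, ← mul_assoc, hd0_a01, mul_assoc]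

theorem W_tor (a b : Fˣ) : A.W * A.tor a b * A.W⁻¹ = A.tor b a := by
  unfold tor
  rw [show ∀ p q : G, A.W * (p * q) * A.W⁻¹ = (A.W * p * A.W⁻¹) * (A.W * q * A.W⁻¹) from fun p q => by group,
    W_S0, W_S1]
  exact (A.hSS 1 0 (by simp) _ _).eq

theorem Wt_eq (t : Fˣ) : A.Wt t = A.tor t t⁻¹ * A.W := by
  obtain ⟨H, hH⟩ : ∃ H, H = A.S 1 (hd ((t⁻¹ : Fˣ) : F) (t⁻¹ : Fˣ).ne_zero) := ⟨_, rfl⟩
  have h1 : ∀ s, H * A.a01 s * H⁻¹ = A.a01 ((t : F) * s) := fun s => by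
    rw [hH, hd1_a01, mul_inv_cancel_right, Units.val_inv_eq_inv_val, inv_inv]
  have h2 : ∀ s, H * A.a10 s * H⁻¹ = A.a10 ((t : F)⁻¹ * s) := fun s => by
    rw [hH, hd1_a10, mul_inv_cancel_right, Units.val_inv_eq_inv_val]
  have hW : A.Wt t = H * A.W * H⁻¹ := by
    rw [W, Wt, Wt, show H * (A.a01 1 * A.a10 (-1⁻¹) * A.a01 1) * H⁻¹ =
      (H * A.a01 1 * H⁻¹) * (H * A.a10 (-1⁻¹) * H⁻¹) * (H * A.a01 1 * H⁻¹) by group, h1, h2]
    simp
  have h3 : A.W * H⁻¹ = A.S 0 (hd (t : F) t.ne_zero) * A.W := by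
    rw [← mul_inv_eq_iff_eq_mul, hH, ← map_inv, W_S1, hd_inv']
    simp
  rw [hW, mul_assoc, h3, ← mul_assoc, hH, tor]
  congr 1
  exact (A.hSS 1 0 (by simp) _ _).eq

/-- the Bruhat relation of the Levi part -/
theorem levi_rel {u s : F} (h : 1 + u * s ≠ 0) :
    ∃ (s' u' : F) (a b : Fˣ), A.a10 u * A.a01 s = A.a01 s' * A.tor a b * A.a10 u' := by
  rcases eq_or_ne u 0 with rfl | hu
  · exact ⟨s, 0, 1, 1, by rw [a10_zero, tor_one, one_mul, mul_one, mul_one]⟩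
  obtain ⟨t, ht⟩ : ∃ t : Fˣ, (t : F) = -u⁻¹ := ⟨Units.mk0 _ (neg_ne_zero.2 (inv_ne_zero hu)), rfl⟩
  have hk0 : s - t ≠ 0 := fun e => h (by
    rw [sub_eq_zero.1 e, ht, mul_neg, mul_inv_cancel₀ hu, add_neg_cancel])
  obtain ⟨k, hk⟩ : ∃ k : Fˣ, (k : F) = s - t := ⟨Units.mk0 _ hk0, rfl⟩
  have e1 : A.a10 u = A.a01 (-(t : F)) * A.Wt t * A.a01 (-(t : F)) := by
    have hu' : -((t : F))⁻¹ = u := by rw [ht, inv_neg, inv_inv, neg_neg]
    rw [Wt, hu', A.a01_neg]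
    group
  have e2 : A.a01 (k : F) = A.Wt k * A.a01 (-(k : F)) * A.a10 ((k : F)⁻¹) := by
    rw [Wt, A.a01_neg, A.a10_neg]
    group
  have e3 : A.W * A.W = (A.tor (-1) (-1)⁻¹)⁻¹ := by
    have h1 : A.Wt ((-1 : Fˣ) : F) = A.W⁻¹ := by
      rw [W, Wt, Wt]
      simp [A.a01_neg, A.a10_neg, mul_assoc]
    rw [A.Wt_eq (-1)] at h1
    refine eq_inv_of_mul_eq_one_left ?_
    have h2 : A.tor (-1) (-1)⁻¹ * A.W * A.W = 1 := by rw [h1, inv_mul_cancel]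
    rw [mul_assoc] at h2
    exact mul_eq_one_comm.1 h2
  have e4 : A.Wt t * A.Wt k = A.tor (t * k⁻¹ * (-1)⁻¹) (t⁻¹ * k * ((-1)⁻¹)⁻¹) := by
    rw [A.Wt_eq, A.Wt_eq,
      show A.tor t t⁻¹ * A.W * (A.tor k k⁻¹ * A.W) = A.tor t t⁻¹ * (A.W * A.tor k k⁻¹ * A.W⁻¹) * (A.W * A.W) by
        group, W_tor, e3, tor_inv, tor_mul, tor_mul]
  refine ⟨-(t : F) + ((t * k⁻¹ * (-1)⁻¹ : Fˣ) : F) * ((((t⁻¹ * k * ((-1)⁻¹)⁻¹ : Fˣ) : F))⁻¹ * -(k : F)),
    (k : F)⁻¹, t * k⁻¹ * (-1)⁻¹, t⁻¹ * k * ((-1)⁻¹)⁻¹, ?_⟩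
  rw [e1, show A.a01 (-(t : F)) * A.Wt t * A.a01 (-(t : F)) * A.a01 s =
      A.a01 (-(t : F)) * A.Wt t * (A.a01 (-(t : F)) * A.a01 s) by group, a01_add, neg_add_eq_sub, ← hk, e2,
    show A.a01 (-(t : F)) * A.Wt t * (A.Wt k * A.a01 (-(k : F)) * A.a10 ((k : F)⁻¹)) =
      A.a01 (-(t : F)) * ((A.Wt t * A.Wt k) * A.a01 (-(k : F))) * A.a10 ((k : F)⁻¹) by group, e4, tor_a01,
    ← mul_assoc (A.a01 (-(t : F))), a01_add]

end Amal

end CfsgLib.Recog.SlimSp
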