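import Cfsg.Agent.Lib.Recog.SlimSp.Amal

/-!
# The first two indices
-/

set_option autoImplicit false

namespace CfsgLib.Recog.SlimSp

open Matrix CfsgLib.Known.SpBounded

variable {F : Type*} [Field F]

theorem wS_inv_coe : ((wS F)⁻¹ : SpecialLinearGroup (Fin 2) F).1 = !![0, -1; 1, 0] := by
  rw [Matrix.SpecialLinearGroup.coe_inv, wS_coe, Matrix.adjugate_fin_two_of]
  simp

theorem hd_inv' {c : F} (hc : c ≠ 0) : (hd c hc)⁻¹ = hd c⁻¹ (inv_ne_zero hc) :=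
  inv_eq_of_mul_eq_one_left (hd_mul_inv hc)

theorem hd_mul' {a b : F} (ha : a ≠ 0) (hb : b ≠ 0) : hd a ha * hd b hb = hd (a * b) (mul_ne_zero ha hb) :=
  Subtype.ext (by
    rw [Matrix.SpecialLinearGroup.coe_mul, hd_coe, hd_coe, hd_coe]
    ext i j
    fin_cases i <;> fin_cases j <;> simp [mul_comm])

theorem em01 {n : ℕ} (l : Fin (n + 2)) : l = 0 ∨ l = 1 ∨ (l ≠ 0 ∧ l ≠ 1) := by tauto

namespace Amal

variable {n : ℕ} {G : Type*} [Group G] (A : Amal F (n + 1) G)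

/-- first pair element -/
def mm (t : F) : G := A.m 0 t

/-- lower Levi element -/
def a10 (u : F) : G := A.S 0 (wS F) * A.mm u * (A.S 0 (wS F))⁻¹

/-- upper Levi element -/
def a01 (s : F) : G := A.S 1 (wS F) * A.mm s * (A.S 1 (wS F))⁻¹

theorem castSucc0 : (0 : Fin (n + 1)).castSucc = (0 : Fin (n + 2)) := rfl

theorem succ0 : (0 : Fin (n + 1)).succ = (1 : Fin (n + 2)) := rfl

theorem πmm_inl (t : F) (x : Vec F (n + 2)) (l : Fin (n + 2)) :
    act (A.π (A.mm t)) x (Sum.inl l) = x (Sum.inl l) +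
      if l = 0 then t * x (Sum.inr 1) else if l = 1 then t * x (Sum.inr 0) else 0 := A.πm_inl 0 t x l

theorem πmm_inr (t : F) (x : Vec F (n + 2)) (l : Fin (n + 2)) :
    act (A.π (A.mm t)) x (Sum.inr l) = x (Sum.inr l) := A.πm_inr 0 t x l

theorem a10_inl (u : F) (x : Vec F (n + 2)) (l : Fin (n + 2)) :
    act (A.π (A.a10 u)) x (Sum.inl l) = x (Sum.inl l) + if l = 1 then u * x (Sum.inl 0) else 0 := by
  have h : (0 : Fin (n + 2)) ≠ 1 := by simp
  unfold a10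
  rw [← map_inv (A.S 0), map_mul, map_mul, act_mul, act_mul]
  simp only [πS_inl, πS_inr, πmm_inl, πmm_inr, wS_coe, wS_inv_coe]
  by_cases h0 : l = 0
  · subst h0; simp [h]
  · by_cases h1 : l = 1
    · subst h1; simp
    · simp [h0, h1]

theorem a10_inr (u : F) (x : Vec F (n + 2)) (l : Fin (n + 2)) :
    act (A.π (A.a10 u)) x (Sum.inr l) = x (Sum.inr l) + if l = 0 then -(u * x (Sum.inr 1)) else 0 := by
  have h : (0 : Fin (n + 2)) ≠ 1 := by simp
  unfold a10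
  rw [← map_inv (A.S 0), map_mul, map_mul, act_mul, act_mul]
  simp only [πS_inl, πS_inr, πmm_inl, πmm_inr, wS_coe, wS_inv_coe]
  by_cases h0 : l = 0
  · subst h0; simp; ring
  · simp [h0]

theorem a01_inl (s : F) (x : Vec F (n + 2)) (l : Fin (n + 2)) :
    act (A.π (A.a01 s)) x (Sum.inl l) = x (Sum.inl l) + if l = 0 then s * x (Sum.inl 1) else 0 := by
  have h : (0 : Fin (n + 2)) ≠ 1 := by simp
  unfold a01
  rw [← map_inv (A.S 1), map_mul, map_mul, act_mul, act_mul]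
  simp only [πS_inl, πS_inr, πmm_inl, πmm_inr, wS_coe, wS_inv_coe]
  by_cases h1 : l = 1
  · subst h1; simp [h.symm]
  · by_cases h0 : l = 0
    · subst h0; simp [h]
    · simp [h0, h1]

theorem a01_inr (s : F) (x : Vec F (n + 2)) (l : Fin (n + 2)) :
    act (A.π (A.a01 s)) x (Sum.inr l) = x (Sum.inr l) + if l = 1 then -(s * x (Sum.inr 0)) else 0 := by
  have h : (0 : Fin (n + 2)) ≠ 1 := by simp
  unfold a01
  rw [← map_inv (A.S 1), map_mul, map_mul, act_mul, act_mul]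
  simp only [πS_inl, πS_inr, πmm_inl, πmm_inr, wS_coe, wS_inv_coe]
  by_cases h1 : l = 1
  · subst h1; simp; ring
  · simp [h1]

theorem mm_mem (j : Fin (n + 2)) (t : F) : A.mm t ∈ A.L 0 j := A.m_mem_L 0 j t

theorem z_mem (j : Fin (n + 2)) (t : F) : A.S 0 (xp t) ∈ A.L 0 j := A.xpl_mem_L 0 j t

theorem y_mem (j : Fin (n + 2)) (t : F) : A.S 1 (xp t) ∈ A.L 0 j := A.xpr_mem_L 0 j t

theorem a10_mem (u : F) : A.a10 u ∈ A.L 0 0 :=
  mul_mem (mul_mem (A.S_mem_L _ _ _) (A.mm_mem _ _)) (inv_mem (A.S_mem_L _ _ _))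

theorem a01_mem (s : F) : A.a01 s ∈ A.L 0 1 :=
  mul_mem (mul_mem (A.S_mem_L _ _ _) (A.mm_mem _ _)) (inv_mem (A.S_mem_L _ _ _))

theorem mm_add (t u : F) : A.mm t * A.mm u = A.mm (t + u) := A.m_add 0 t u

theorem mm_neg (t : F) : A.mm (-t) = (A.mm t)⁻¹ := A.m_neg 0 t

theorem mm_zero : A.mm 0 = 1 := A.m_zero 0

theorem a10_add (t u : F) : A.a10 t * A.a10 u = A.a10 (t + u) := by
  unfold a10; rw [← A.mm_add]; group

theorem a01_add (t u : F) : A.a01 t * A.a01 u = A.a01 (t + u) := by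
  unfold a01; rw [← A.mm_add]; group

theorem a10_zero : A.a10 0 = 1 := by unfold a10; rw [A.mm_zero]; group

theorem a01_zero : A.a01 0 = 1 := by unfold a01; rw [A.mm_zero]; group

theorem a10_neg (t : F) : A.a10 (-t) = (A.a10 t)⁻¹ := by unfold a10; rw [A.mm_neg]; group

theorem a01_neg (t : F) : A.a01 (-t) = (A.a01 t)⁻¹ := by unfold a01; rw [A.mm_neg]; group

/-- the symmetric root elements of the first pair -/
def U : Subgroup G :=
  Subgroup.closure (Set.range (fun t => A.S 0 (xp t)) ∪ Set.range A.mm ∪ Set.range (fun t => A.S 1 (xp t)))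

theorem U_le (j : Fin (n + 2)) : A.U ≤ A.L 0 j := (Subgroup.closure_le _).2 (by
  rintro _ ((⟨t, rfl⟩ | ⟨t, rfl⟩) | ⟨t, rfl⟩)
  · exact A.z_mem j t
  · exact A.mm_mem j t
  · exact A.y_mem j t)

theorem z_mem_U (t : F) : A.S 0 (xp t) ∈ A.U := Subgroup.subset_closure (Or.inl (Or.inl ⟨t, rfl⟩))

theorem mm_mem_U (t : F) : A.mm t ∈ A.U := Subgroup.subset_closure (Or.inl (Or.inr ⟨t, rfl⟩))

theorem y_mem_U (t : F) : A.S 1 (xp t) ∈ A.U := Subgroup.subset_closure (Or.inr ⟨t, rfl⟩)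

theorem eqU {g h : G} (hg : g ∈ A.U) (hh : h ∈ A.U) (e : A.π g = A.π h) : g = h :=
  A.eqL (A.U_le 0 hg) (A.U_le 0 hh) e

/-- the Levi elements -/
def N : Subgroup G := Subgroup.closure (Set.range A.a01 ∪ Set.range A.a10)

theorem a01_mem_N (s : F) : A.a01 s ∈ A.N := Subgroup.subset_closure (Or.inl ⟨s, rfl⟩)

theorem a10_mem_N (s : F) : A.a10 s ∈ A.N := Subgroup.subset_closure (Or.inr ⟨s, rfl⟩)

theorem a01_z (s k : F) : A.a01 s * A.S 0 (xp k) = A.S 0 (xp k) * A.a01 s := by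
  refine A.eqL (mul_mem (A.a01_mem s) (A.z_mem 1 k)) (mul_mem (A.z_mem 1 k) (A.a01_mem s))
    (act_ext fun x => funext fun l => ?_)
  simp only [map_mul, act_mul]
  rcases l with l | l <;> simp only [a01_inl, a01_inr, πS_inl, πS_inr, xp_coe] <;>
    rcases em01 l with rfl | rfl | ⟨h0, h1⟩ <;> simp [*] <;> ring

theorem a01_mm (s t : F) : A.a01 s * A.mm t = A.mm t * A.S 0 (xp (2 * s * t)) * A.a01 s := by
  refine A.eqL (mul_mem (A.a01_mem s) (A.mm_mem 1 t))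
    (mul_mem (mul_mem (A.mm_mem 1 t) (A.z_mem 1 _)) (A.a01_mem s))
    (act_ext fun x => funext fun l => ?_)
  simp only [map_mul, act_mul]
  rcases l with l | l <;> simp only [a01_inl, a01_inr, πmm_inl, πmm_inr, πS_inl, πS_inr, xp_coe] <;>
    rcases em01 l with rfl | rfl | ⟨h0, h1⟩ <;> simp [*] <;> ring

theorem a01_y (s k : F) :
    A.a01 s * A.S 1 (xp k) = A.S 1 (xp k) * A.mm (s * k) * A.S 0 (xp (s * s * k)) * A.a01 s := by
  refine A.eqL (mul_mem (A.a01_mem s) (A.y_mem 1 k))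
    (mul_mem (mul_mem (mul_mem (A.y_mem 1 k) (A.mm_mem 1 _)) (A.z_mem 1 _)) (A.a01_mem s))
    (act_ext fun x => funext fun l => ?_)
  simp only [map_mul, act_mul]
  rcases l with l | l <;> simp only [a01_inl, a01_inr, πmm_inl, πmm_inr, πS_inl, πS_inr, xp_coe] <;>
    rcases em01 l with rfl | rfl | ⟨h0, h1⟩ <;> simp [*] <;> ring

theorem a10_z (u k : F) :
    A.a10 u * A.S 0 (xp k) = A.S 0 (xp k) * A.mm (u * k) * A.S 1 (xp (u * u * k)) * A.a10 u := by
  refine A.eqL (mul_mem (A.a10_mem u) (A.z_mem 0 k))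
    (mul_mem (mul_mem (mul_mem (A.z_mem 0 k) (A.mm_mem 0 _)) (A.y_mem 0 _)) (A.a10_mem u))
    (act_ext fun x => funext fun l => ?_)
  simp only [map_mul, act_mul]
  rcases l with l | l <;> simp only [a10_inl, a10_inr, πmm_inl, πmm_inr, πS_inl, πS_inr, xp_coe] <;>
    rcases em01 l with rfl | rfl | ⟨h0, h1⟩ <;> simp [*] <;> ring

theorem a10_mm (u t : F) : A.a10 u * A.mm t = A.mm t * A.S 1 (xp (2 * u * t)) * A.a10 u := by
  refine A.eqL (mul_mem (A.a10_mem u) (A.mm_mem 0 t))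
    (mul_mem (mul_mem (A.mm_mem 0 t) (A.y_mem 0 _)) (A.a10_mem u))
    (act_ext fun x => funext fun l => ?_)
  simp only [map_mul, act_mul]
  rcases l with l | l <;> simp only [a10_inl, a10_inr, πmm_inl, πmm_inr, πS_inl, πS_inr, xp_coe] <;>
    rcases em01 l with rfl | rfl | ⟨h0, h1⟩ <;> simp [*] <;> ring

theorem a10_y (u k : F) : A.a10 u * A.S 1 (xp k) = A.S 1 (xp k) * A.a10 u := by
  refine A.eqL (mul_mem (A.a10_mem u) (A.y_mem 0 k)) (mul_mem (A.y_mem 0 k) (A.a10_mem u))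
    (act_ext fun x => funext fun l => ?_)
  simp only [map_mul, act_mul]
  rcases l with l | l <;> simp only [a10_inl, a10_inr, πS_inl, πS_inr, xp_coe] <;>
    rcases em01 l with rfl | rfl | ⟨h0, h1⟩ <;> simp [*] <;> ring

theorem N_norm {g : G} (hg : g ∈ A.N) : ∀ u ∈ A.U, g * u * g⁻¹ ∈ A.U ∧ g⁻¹ * u * g ∈ A.U := by
  induction hg using Subgroup.closure_induction with
  | one => exact fun u hu => by simpa using hu
  | mul a b _ _ ha hb =>
    exact fun u hu => ⟨by simpa [mul_assoc] using (ha _ (hb u hu).1).1,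
      by simpa [mul_assoc] using (hb _ (ha u hu).2).2⟩
  | inv a _ ha => exact fun u hu => ⟨by simpa using (ha u hu).2, by simpa using (ha u hu).1⟩
  | mem a ha =>
    have key : ∀ a : G, (∃ s, a = A.a01 s) ∨ (∃ s, a = A.a10 s) → ∀ u ∈ A.U, a * u * a⁻¹ ∈ A.U := by
      intro a ha u hu
      induction hu using Subgroup.closure_induction with
      | one => simp
      | mul x y _ _ hx hy => simpa [mul_assoc] using mul_mem hx hy
      | inv x _ hx => simpa [mul_assoc] using inv_mem hx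
      | mem x hx =>
        rcases ha with ⟨s, rfl⟩ | ⟨s, rfl⟩
        · rcases hx with (⟨t, rfl⟩ | ⟨t, rfl⟩) | ⟨t, rfl⟩
          · show A.a01 s * A.S 0 (xp t) * (A.a01 s)⁻¹ ∈ A.U
            rw [a01_z, mul_inv_cancel_right]; exact A.z_mem_U _
          · rw [a01_mm, mul_inv_cancel_right]; exact mul_mem (A.mm_mem_U _) (A.z_mem_U _)
          · show A.a01 s * A.S 1 (xp t) * (A.a01 s)⁻¹ ∈ A.U
            rw [a01_y, mul_inv_cancel_right]
            exact mul_mem (mul_mem (A.y_mem_U _) (A.mm_mem_U _)) (A.z_mem_U _)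
        · rcases hx with (⟨t, rfl⟩ | ⟨t, rfl⟩) | ⟨t, rfl⟩
          · show A.a10 s * A.S 0 (xp t) * (A.a10 s)⁻¹ ∈ A.U
            rw [a10_z, mul_inv_cancel_right]
            exact mul_mem (mul_mem (A.z_mem_U _) (A.mm_mem_U _)) (A.y_mem_U _)
          · rw [a10_mm, mul_inv_cancel_right]; exact mul_mem (A.mm_mem_U _) (A.y_mem_U _)
          · show A.a10 s * A.S 1 (xp t) * (A.a10 s)⁻¹ ∈ A.U
            rw [a10_y, mul_inv_cancel_right]; exact A.y_mem_U _
    intro u hu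
    rcases ha with ⟨s, rfl⟩ | ⟨s, rfl⟩
    · exact ⟨key _ (Or.inl ⟨s, rfl⟩) u hu, by
        simpa [A.a01_neg] using key _ (Or.inl ⟨-s, rfl⟩) u hu⟩
    · exact ⟨key _ (Or.inr ⟨s, rfl⟩) u hu, by
        simpa [A.a10_neg] using key _ (Or.inr ⟨-s, rfl⟩) u hu⟩

/-- exchanging the two halves of the first pair -/
def cc : G := A.S 0 (wS F) * A.S 1 (wS F)

theorem cc_a01 (s : F) : A.cc⁻¹ * A.a01 s * A.cc = A.a10 (-s) := by
  have e : A.cc⁻¹ * A.a01 s * A.cc = (A.S 0 (wS F))⁻¹ * A.mm s * A.S 0 (wS F) := by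
    unfold cc a01
    rw [(A.hSS 0 1 (by simp) _ _).eq]
    group
  rw [e]
  refine A.eqL (mul_mem (mul_mem (inv_mem (A.S_mem_L _ _ _)) (A.mm_mem 0 s)) (A.S_mem_L _ _ _)) (A.a10_mem _)
    (act_ext fun x => funext fun l => ?_)
  rw [← map_inv (A.S 0), map_mul, map_mul, act_mul, act_mul]
  rcases l with l | l <;> simp only [a10_inl, a10_inr, πmm_inl, πmm_inr, πS_inl, πS_inr, wS_coe, wS_inv_coe] <;>
    rcases em01 l with rfl | rfl | ⟨h0, h1⟩ <;> simp [*] <;> ring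

theorem cc_a10 (u : F) : A.cc⁻¹ * A.a10 u * A.cc = A.a01 (-u) := by
  have e : A.cc⁻¹ * A.a10 u * A.cc = (A.S 1 (wS F))⁻¹ * A.mm u * A.S 1 (wS F) := by
    unfold cc a10
    group
  rw [e]
  refine A.eqL (mul_mem (mul_mem (inv_mem (A.S_mem_L _ _ _)) (A.mm_mem 1 u)) (A.S_mem_L _ _ _)) (A.a01_mem _)
    (act_ext fun x => funext fun l => ?_)
  rw [← map_inv (A.S 1), map_mul, map_mul, act_mul, act_mul]
  rcases l with l | l <;> simp only [a01_inl, a01_inr, πmm_inl, πmm_inr, πS_inl, πS_inr, wS_coe, wS_inv_coe] <;>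
    rcases em01 l with rfl | rfl | ⟨h0, h1⟩ <;> simp [*] <;> ring

theorem cc_N {g : G} (hg : g ∈ A.N) : A.cc⁻¹ * g * A.cc ∈ A.N := by
  induction hg using Subgroup.closure_induction with
  | one => simp
  | mul a b _ _ ha hb => simpa [mul_assoc] using mul_mem ha hb
  | inv a _ ha => simpa [mul_assoc] using inv_mem ha
  | mem a ha =>
    rcases ha with ⟨s, rfl⟩ | ⟨s, rfl⟩
    · rw [cc_a01]; exact A.a10_mem_N _
    · rw [cc_a10]; exact A.a01_mem_N _

theorem xm_eq (t : F) : (wS F) * xp (-t) * (wS F)⁻¹ = xm t := Subtype.ext (by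
  rw [Matrix.SpecialLinearGroup.coe_mul, Matrix.SpecialLinearGroup.coe_mul, wS_coe, wS_inv_coe, xp_coe, xm_coe]
  ext i j
  fin_cases i <;> fin_cases j <;> simp)

theorem cc_xm0 (t : F) : A.S 0 (xm t) = A.cc * A.S 0 (xp (-t)) * A.cc⁻¹ := by
  rw [← xm_eq, map_mul, map_mul, map_inv]
  unfold cc
  have h : Commute (A.S 1 (wS F)) (A.S 0 (xp (-t))) := A.hSS 1 0 (by simp) _ _
  rw [_root_.mul_inv_rev]
  calc _ = A.S 0 (wS F) * (A.S 0 (xp (-t)) * A.S 1 (wS F)) * (A.S 1 (wS F))⁻¹ * (A.S 0 (wS F))⁻¹ := by group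
    _ = _ := by rw [← h.eq]; group

theorem cc_xm1 (t : F) : A.S 1 (xm t) = A.cc * A.S 1 (xp (-t)) * A.cc⁻¹ := by
  rw [← xm_eq, map_mul, map_mul, map_inv]
  unfold cc
  have h : Commute (A.S 0 (wS F)) (A.S 1 (wS F) * A.S 1 (xp (-t)) * (A.S 1 (wS F))⁻¹) := by
    rw [← map_inv, ← map_mul, ← map_mul]
    exact A.hSS 0 1 (by simp) _ _
  rw [_root_.mul_inv_rev]
  calc _ = A.S 1 (wS F) * A.S 1 (xp (-t)) * (A.S 1 (wS F))⁻¹ * A.S 0 (wS F) * (A.S 0 (wS F))⁻¹ := by group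
    _ = _ := by rw [← h.eq]; group

end Amal

end CfsgLib.Recog.SlimSp
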