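import Cfsg.Agent.Lib.Recog.SlimSp.Cosets
import Cfsg.Agent.Lib.Classical.Symplectic.MatrixTransvection

/-!
# The induction
-/

set_option autoImplicit false

namespace CfsgLib.Recog.SlimSp

open Matrix CfsgLib.Known.SpBounded

variable {F : Type*} [Field F]

namespace Amal

variable {n : ℕ} {G : Type*} [Group G] (A : Amal F (n + 1) G) (hT : OK A.tail)

/-- every representative of the image vector is equivalent to the element -/
def Good (k : G) : Prop :=
  (∀ (v : Vec F (n + 1)) (κ : F) (c : Fˣ), A.img k = A.img (A.R hT v κ c) → A.Eqv k (A.R hT v κ c)) ∧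
  ∀ (v : Vec F (n + 1)) (a : Fˣ) (y : Vec F (n + 1)),
    A.img k = A.img (A.q hT v * A.sB hT a y) → A.Eqv k (A.q hT v * A.sB hT a y)

theorem img_qsB (v : Vec F (n + 1)) (a : Fˣ) (y : Vec F (n + 1)) :
    A.img (A.q hT v * A.sB hT a y) = vec ((a : F) + om v y) y 0 := by
  rw [img_mul, img_sB, act_q, zero_smul, add_zero]

theorem good_of_eqv {k k' : G} (hk : A.Good hT k) (h : A.Eqv k k') : A.Good hT k' :=
  ⟨fun v κ c e => h.symm.trans _ (hk.1 v κ c (h.img_eq.trans e)),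
    fun v a y e => h.symm.trans _ (hk.2 v a y (h.img_eq.trans e))⟩

theorem good_R (v : Vec F (n + 1)) (κ : F) (c : Fˣ) : A.Good hT (A.R hT v κ c) := by
  refine ⟨fun v' κ' c' e => ?_, fun v' a y e => ?_⟩
  · rw [img_R, img_R, vc_inj] at e
    obtain ⟨e1, e2, e3⟩ := e
    obtain rfl := Units.ext e3
    obtain rfl := mul_right_cancel₀ c.ne_zero e1
    obtain rfl : v = v' := smul_right_injective _ c.ne_zero e2
    exact A.eqv_refl _
  · rw [img_R, img_qsB, vc_inj] at e
    exact absurd e.2.2 c.ne_zero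

theorem good_qsB (hF : ∃ a : F, a ≠ 0 ∧ a ≠ 1) (v : Vec F (n + 1)) (a : Fˣ) (y : Vec F (n + 1)) :
    A.Good hT (A.q hT v * A.sB hT a y) := by
  refine ⟨fun v' κ' c' e => ?_, fun v' a' y' e => ?_⟩
  · rw [img_R, img_qsB, vc_inj] at e
    exact absurd e.2.2.symm c'.ne_zero
  · rw [img_qsB, img_qsB, vc_inj] at e
    obtain ⟨e1, rfl, -⟩ := e
    have hd : (a' : F) = a + om (v - v') y := by
      have := om_add_left (v - v') v' y
      rw [sub_add_cancel] at this
      linear_combination -e1 + this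
    have hlaw : A.q hT v' * A.q hT (v - v') = A.q hT v * A.z (om v' (v - v')) := by
      have := A.law hT hF v' (v - v')
      rwa [Law, add_sub_cancel] at this
    have h := A.eqv_left (A.q hT v') (A.sB_step hT hF a a' (v - v') y hd)
    rw [← mul_assoc, hlaw, mul_assoc] at h
    exact ((A.eqv_left _ (A.z_sB hT _ a y)).symm).trans _ h

theorem sB_one : A.sB hT 1 (0 : Vec F (n + 1)) = 1 := by
  rw [sB_zero, ← map_one (A.S 0)]
  congr 1
  refine Subtype.ext ?_
  rw [hd_coe, Matrix.SpecialLinearGroup.coe_one]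
  ext i j
  fin_cases i <;> fin_cases j <;> simp

theorem good_one (hF : ∃ a : F, a ≠ 0 ∧ a ≠ 1) : A.Good hT 1 := by
  have h := A.good_qsB hT hF 0 1 0
  rwa [q_zero, one_mul, sB_one] at h

/-- representatives exist for every nonzero vector -/
theorem exists_rep {x : Vec F (n + 2)} (hx : x ≠ 0) :
    (∃ (v : Vec F (n + 1)) (κ : F) (c : Fˣ), x = A.img (A.R hT v κ c)) ∨
      ∃ (v : Vec F (n + 1)) (a : Fˣ) (y : Vec F (n + 1)), x = A.img (A.q hT v * A.sB hT a y) := by
  rw [← vc_eta x]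
  by_cases hc : x (Sum.inr 0) = 0
  · refine Or.inr ?_
    by_cases ha : x (Sum.inl 0) = 0
    · have hy : tl x ≠ 0 := fun e => hx (by
        rw [← vc_eta x, ha, hc, e]
        funext l; rcases l with l | l <;> refine Fin.cases ?_ (fun i => ?_) l <;> simp [vec])
      obtain ⟨u, hu⟩ := exists_om_one hy
      exact ⟨u, -1, tl x, by rw [img_qsB, hu, ha, hc, Units.val_neg, Units.val_one, neg_add_cancel]⟩
    · exact ⟨0, Units.mk0 _ ha, tl x, by rw [img_qsB, om_zero_left, add_zero, hc, Units.val_mk0]⟩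
  · refine Or.inl ⟨(x (Sum.inr 0))⁻¹ • tl x, x (Sum.inl 0) * (x (Sum.inr 0))⁻¹, Units.mk0 _ hc, ?_⟩
    rw [img_R, Units.val_mk0, smul_smul, mul_inv_cancel₀ hc, one_smul, inv_mul_cancel_right₀ hc]

theorem img_ne (k : G) : A.img k ≠ 0 := act_ne_zero _ fun e => by
  simpa [vec] using congrFun e (Sum.inl 0)

theorem good_cases {k : G} (hk : A.Good hT k) :
    (∃ (v : Vec F (n + 1)) (κ : F) (c : Fˣ), A.Eqv (A.R hT v κ c) k) ∨
      ∃ (v : Vec F (n + 1)) (a : Fˣ) (y : Vec F (n + 1)), A.Eqv (A.q hT v * A.sB hT a y) k := by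
  rcases A.exists_rep hT (A.img_ne k) with ⟨v, κ, c, e⟩ | ⟨v, a, y, e⟩
  · exact Or.inl ⟨v, κ, c, (hk.1 v κ c e).symm⟩
  · exact Or.inr ⟨v, a, y, (hk.2 v a y e).symm⟩

/-- the generators preserve goodness -/
theorem good_mul_of {g : G} (hR : ∀ v κ c, A.Good hT (g * A.R hT v κ c))
    (hB : ∀ v a y, A.Good hT (g * (A.q hT v * A.sB hT a y))) {k : G} (hk : A.Good hT k) : A.Good hT (g * k) := by
  rcases A.good_cases hT hk with ⟨v, κ, c, e⟩ | ⟨v, a, y, e⟩
  · exact A.good_of_eqv hT (hR v κ c) (A.eqv_left g e)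
  · exact A.good_of_eqv hT (hB v a y) (A.eqv_left g e)

theorem good_up (hF : ∃ a : F, a ≠ 0 ∧ a ≠ 1) {g : ↥(pull A)} (hg : g ∈ A.tail.K) {k : G} (hk : A.Good hT k) :
    A.Good hT (A.up g * k) := by
  refine A.good_mul_of hT (fun v κ c => ?_) (fun v a y => ?_) hk
  · have hc : Commute (A.up g) (A.z κ * A.S 0 (dM c)) := (A.comm_S0 hg _).mul_right (A.comm_S0 hg _)
    have e : A.up g * A.R hT v κ c = A.R hT (act (A.dn g) v) κ c * A.up g := by
      unfold R
      calc _ = A.up g * A.q hT v * (A.z κ * A.S 0 (dM c)) := by group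
        _ = A.q hT (act (A.dn g) v) * (A.up g * (A.z κ * A.S 0 (dM c))) := by rw [A.q_conj hT hg]; group
        _ = _ := by rw [hc.eq]; group
    rw [e]
    exact A.good_of_eqv hT (A.good_R hT _ _ _) (A.eqv_mul (A.up_mem_P hg)).symm
  · have e : A.up g * (A.q hT v * A.sB hT a y) =
        A.q hT (act (A.dn g) v) * A.sB hT a (act (A.dn g) y) * A.up g := by
      rw [← mul_assoc, A.q_conj hT hg, mul_assoc, A.comm_up_sB hT hg, ← mul_assoc]
    rw [e]
    exact A.good_of_eqv hT (A.good_qsB hT hF _ _ _) (A.eqv_mul (A.up_mem_P hg)).symm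

theorem good_z (hF : ∃ a : F, a ≠ 0 ∧ a ≠ 1) (t : F) {k : G} (hk : A.Good hT k) : A.Good hT (A.z t * k) := by
  refine A.good_mul_of hT (fun v κ c => ?_) (fun v a y => ?_) hk
  · have e : A.z t * A.R hT v κ c = A.R hT v (t + κ) c := by
      unfold R
      rw [show A.z t * (A.q hT v * A.z κ * A.S 0 (dM c)) = (A.z t * A.q hT v) * A.z κ * A.S 0 (dM c) by group,
        (A.z_q hT t v).eq, mul_assoc (A.q hT v), z_add]
    rw [e]
    exact A.good_R hT _ _ _
  · refine A.good_of_eqv hT (A.good_qsB hT hF v a y) ?_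
    rw [← mul_assoc, (A.z_q hT t v).eq, mul_assoc]
    exact A.eqv_left _ (A.z_sB hT t a y).symm

theorem good_mm (hF : ∃ a : F, a ≠ 0 ∧ a ≠ 1) (t : F) {k : G} (hk : A.Good hT k) : A.Good hT (A.mm t * k) := by
  obtain ⟨u, hu⟩ : ∃ u : Vec F (n + 1), u = t • eL F 0 := ⟨_, rfl⟩
  have hq : A.mm t = A.q hT u := by rw [hu, A.q_e hT t]
  rw [hq]
  refine A.good_mul_of hT (fun v κ c => ?_) (fun v a y => ?_) hk
  · have e : A.q hT u * A.R hT v κ c = A.R hT (u + v) (om u v + κ) c := by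
      unfold R
      rw [← z_add, show A.q hT u * (A.q hT v * A.z κ * A.S 0 (dM c)) =
        (A.q hT u * A.q hT v) * A.z κ * A.S 0 (dM c) by group, A.law hT hF u v]
      group
    rw [e]
    exact A.good_R hT _ _ _
  · refine A.good_of_eqv hT (A.good_qsB hT hF (u + v) a y) ?_
    rw [← mul_assoc, A.law hT hF u v, mul_assoc]
    exact A.eqv_left _ (A.z_sB hT _ a y).symm

theorem w0_W : A.S 0 (wS F) * A.W = A.W * A.S 1 (wS F) := by
  rw [← A.W_S1 (wS F)]; group

theorem a10_neg_one : A.a10 (-1) = A.sB hT 1 (-eL F 0) := by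
  have h : A.sB hT 1 (-eL F 0) = (A.S 0 (wS F))⁻¹ * A.mm 1 * A.S 0 (wS F) := by
    rw [sB, dM_neg_one, ← A.q_e hT 1]
    simp
  rw [h]
  refine A.eqL (A.a10_mem _) (mul_mem (mul_mem (inv_mem (A.S_mem_L 0 0 _)) (A.mm_mem 0 1)) (A.S_mem_L _ _ _))
    (act_ext fun x => funext fun l => ?_)
  rw [← map_inv (A.S 0), map_mul, map_mul, act_mul, act_mul]
  rcases l with l | l <;> simp only [a10_inl, a10_inr, πmm_inl, πmm_inr, πS_inl, πS_inr, wS_coe, wS_inv_coe] <;>
    rcases em01 l with rfl | rfl | ⟨h0, h1⟩ <;> simp [*] <;> ring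

theorem good_w0 (hF : ∃ a : F, a ≠ 0 ∧ a ≠ 1) {k : G} (hk : A.Good hT k) :
    A.Good hT (A.S 0 (wS F) * k) := by
  refine A.good_mul_of hT (fun v κ c => ?_) (fun v a y => ?_) hk
  · rcases eq_or_ne κ 0 with rfl | hκ
    · have e : A.S 0 (wS F) * A.R hT v 0 c = A.q hT 0 * A.sB hT c ((c : F) • v) := by
        rw [R, z_zero, mul_one, q_zero, one_mul, sB, smul_smul, neg_mul, inv_mul_cancel₀ c.ne_zero, neg_one_smul]
        have h1 : A.S 0 (hd (-1 : F) (neg_ne_zero.2 one_ne_zero)) * A.q hT v =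
            A.q hT (-v) * A.S 0 (hd (-1 : F) (neg_ne_zero.2 one_ne_zero)) := by
          rw [A.hd0_q hT, neg_one_smul]
        have h2 : hd (-1 : F) (neg_ne_zero.2 one_ne_zero) * dM c = dM (-c) := by
          have := hd_dM (-1 : Fˣ) c
          simp only [Units.val_neg, Units.val_one, inv_neg, inv_one, mul_neg, mul_one] at this
          exact this
        calc A.S 0 (wS F) * (A.q hT v * A.S 0 (dM c))
            = (A.S 0 (wS F))⁻¹ * ((A.S 0 (wS F) * A.S 0 (wS F)) * A.q hT v) * A.S 0 (dM c) := by group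
          _ = (A.S 0 (wS F))⁻¹ * A.q hT (-v) *
              (A.S 0 (hd (-1 : F) (neg_ne_zero.2 one_ne_zero)) * A.S 0 (dM c)) := by
              rw [← map_mul, wS_sq, h1]; group
          _ = _ := by rw [← map_mul, h2]
      rw [e]
      exact A.good_qsB hT hF _ _ _
    · obtain ⟨v', κ', c', h⟩ := A.w0_R hT v κ hκ c
      exact A.good_of_eqv hT (A.good_R hT _ _ _) h.symm
  · by_cases ha : (a : F) + om v y = 0
    swap
    · obtain ⟨a', ha'⟩ : ∃ a' : Fˣ, (a' : F) = a + om v y := ⟨Units.mk0 _ ha, rfl⟩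
      refine A.good_of_eqv hT ?_ (A.eqv_left _ (A.sB_step hT hF a a' v y ha').symm)
      have e : A.S 0 (wS F) * A.sB hT a' y = A.R hT ((-(a' : F)⁻¹) • y) 0 (-a') := by
        rw [sB, R, z_zero, mul_one]; group
      rw [e]
      exact A.good_R hT _ _ _
    · have hy : y ≠ 0 := fun e => a.ne_zero (by rw [e] at ha; simpa [om] using ha)
      obtain ⟨g, hg, hgy⟩ := hT.trans (-y) (neg_ne_zero.2 hy)
      rw [tail_π] at hgy
      -- both sides are the Weyl element moved by `g`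
      have hW : A.Eqv (A.q hT (-(eR F 0)) * A.sB hT 1 (-eL F 0)) A.W := by
        rw [W, Wt, inv_one, ← a10_neg_one, show -(eR F (0 : Fin (n + 1))) = (-1 : F) • eR F 0 from
          (neg_one_smul F _).symm, ← A.a01_eq_q hT 1]
        refine (A.eqv_mul (p := A.a01 1) ?_).symm
        rw [a01_eq_q A hT]
        exact A.q_mem_P hT _
      have hg0 : A.img (A.q hT v * A.sB hT a y) = A.img (A.up g * A.W) := by
        rw [img_qsB, ha, img_mul, ← hW.img_eq, img_qsB, act_up]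
        have : act (A.dn g) (-eL F 0) = y := by
          rw [← neg_one_smul F (eL F 0), act_smul, hgy, neg_one_smul, neg_neg]
        rw [this]
        congr 1
        simp [om_eR, om, eL, eR, Pi.single_apply]
      have hkW : A.Eqv (A.q hT v * A.sB hT a y) (A.up g * A.W) := by
        have h1 : A.Good hT (A.up g * A.W) :=
          A.good_up hT hF hg (A.good_of_eqv hT (A.good_qsB hT hF _ _ _) hW)
        exact (h1.2 v a y hg0.symm).symm
      refine A.good_of_eqv hT ?_ (A.eqv_left _ hkW.symm)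
      rw [← mul_assoc, ← (A.comm_S0 hg _).eq, mul_assoc, w0_W]
      refine A.good_up hT hF hg (A.good_of_eqv hT (A.good_qsB hT hF _ _ _) (hW.trans _ ?_))
      exact (A.eqv_mul (A.S_mem_P (by simp) _)).symm

theorem closure_xp_w (H : Subgroup (SpecialLinearGroup (Fin 2) F)) (h1 : ∀ t, xp t ∈ H) (h2 : wS F ∈ H) : H = ⊤ :=
  CfsgLib.CTBond.closure_XY H h1 fun t => by
    show xm t ∈ H
    rw [← xm_eq]
    exact mul_mem (mul_mem h2 (h1 _)) (inv_mem h2)

theorem good_all (hF : ∃ a : F, a ≠ 0 ∧ a ≠ 1) {k : G} (hk : k ∈ A.K) : A.Good hT k := by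
  obtain ⟨S, hS⟩ : ∃ S : Set G, S = (A.tail.K.map ((MonoidHom.snd _ _).comp (pull A).subtype) : Set G) ∪
      Set.range A.z ∪ Set.range A.mm ∪ {A.S 0 (wS F)} := ⟨_, rfl⟩
  have hle : A.K ≤ Subgroup.closure S := (Subgroup.closure_le _).2 (by
    have hup : ∀ g ∈ A.tail.K, A.up g ∈ Subgroup.closure S := fun g hg =>
      Subgroup.subset_closure (hS ▸ Or.inl (Or.inl (Or.inl ⟨g, hg, rfl⟩)))
    rintro g (h | h)
    · obtain ⟨j, M, rfl⟩ := Set.mem_iUnion.1 h
      refine Fin.cases ?_ (fun j => ?_) j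
      · exact (closure_xp_w ((Subgroup.closure S).comap (A.S 0))
          (fun t => Subgroup.subset_closure (hS ▸ Or.inl (Or.inl (Or.inr ⟨t, rfl⟩))))
          (Subgroup.subset_closure (hS ▸ Or.inr rfl))).ge (Subgroup.mem_top M)
      · exact hup _ (A.tail.S_mem_K j M)
    · obtain ⟨i, t, rfl⟩ := Set.mem_iUnion.1 h
      refine Fin.cases ?_ (fun i => ?_) i
      · exact Subgroup.subset_closure (hS ▸ Or.inl (Or.inr ⟨t, rfl⟩))
      · exact hup _ (A.tail.m_mem_K i t))
  have key : ∀ g ∈ S, ∀ k : G, A.Good hT k → A.Good hT (g * k) ∧ A.Good hT (g⁻¹ * k) := by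
    intro g hg k hk
    rw [hS] at hg
    rcases hg with ((⟨h, hh, rfl⟩ | ⟨t, rfl⟩) | ⟨t, rfl⟩) | rfl
    · exact ⟨A.good_up hT hF hh hk, A.good_up hT hF (inv_mem hh) hk⟩
    · refine ⟨A.good_z hT hF t hk, ?_⟩
      rw [show (A.z t)⁻¹ = A.z (-t) from inv_eq_of_mul_eq_one_right (by rw [z_add, add_neg_cancel, z_zero])]
      exact A.good_z hT hF _ hk
    · refine ⟨A.good_mm hT hF t hk, ?_⟩
      rw [← A.mm_neg]
      exact A.good_mm hT hF _ hk
    · refine ⟨A.good_w0 hT hF hk, ?_⟩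
      have e : (A.S 0 (wS F))⁻¹ = A.S 0 (wS F) * (A.S 0 (wS F) * A.S 0 (wS F)) := by
        rw [← map_inv, ← map_mul, ← map_mul]
        congr 1
        refine Subtype.ext ?_
        rw [Matrix.SpecialLinearGroup.coe_mul, Matrix.SpecialLinearGroup.coe_mul, wS_coe, wS_inv_coe]
        ext i j
        fin_cases i <;> fin_cases j <;> simp
      rw [e, mul_assoc, mul_assoc]
      exact A.good_w0 hT hF (A.good_w0 hT hF (A.good_w0 hT hF hk))
  have hk' := hle hk
  clear hk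
  induction hk' using Subgroup.closure_induction_left with
  | one => exact A.good_one hT hF
  | mul_left g hg k hk ih => exact (key g hg _ ih).1
  | inv_mul_cancel g hg k hk ih => exact (key g hg _ ih).2

theorem P_form (hF : ∃ a : F, a ≠ 0 ∧ a ≠ 1) {p : G} (hp : p ∈ A.P) :
    ∃ (v : Vec F (n + 1)) (κ : F) (g : ↥(pull A)), g ∈ A.tail.K ∧ p = A.q hT v * A.z κ * A.up g := by
  have hmul : ∀ (v v' : Vec F (n + 1)) (κ κ' : F) (g g' : ↥(pull A)), g ∈ A.tail.K → g' ∈ A.tail.K →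
      ∃ (w : Vec F (n + 1)) (l : F) (h : ↥(pull A)), h ∈ A.tail.K ∧
        A.q hT v * A.z κ * A.up g * (A.q hT v' * A.z κ' * A.up g') = A.q hT w * A.z l * A.up h := by
    intro v v' κ κ' g g' hg hg'
    refine ⟨v + act (A.dn g) v', om v (act (A.dn g) v') + (κ + κ'), g * g', mul_mem hg hg', ?_⟩
    have hc : Commute (A.up g) (A.z κ') := A.comm_S0 hg _
    rw [← z_add, ← z_add]
    calc A.q hT v * A.z κ * A.up g * (A.q hT v' * A.z κ' * A.up g')
        = A.q hT v * A.z κ * (A.up g * A.q hT v') * A.z κ' * A.up g' := by group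
      _ = A.q hT v * (A.z κ * A.q hT (act (A.dn g) v')) * (A.up g * A.z κ') * A.up g' := by
          rw [A.q_conj hT hg]; group
      _ = (A.q hT v * A.q hT (act (A.dn g) v')) * A.z κ * A.z κ' * (A.up g * A.up g') := by
          rw [hc.eq, (A.z_q hT κ _).eq]; group
      _ = _ := by
          rw [A.law hT hF]
          show _ = A.q hT (v + act (A.dn g) v') * _ * (A.up g * A.up g')
          group
  induction hp using Subgroup.closure_induction with
  | one => exact ⟨0, 0, 1, one_mem _, by simp [q_zero, z_zero, up]⟩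
  | mul a b _ _ ha hb =>
    obtain ⟨v, κ, g, hg, rfl⟩ := ha
    obtain ⟨v', κ', g', hg', rfl⟩ := hb
    exact hmul v v' κ κ' g g' hg hg'
  | inv a _ ha =>
    obtain ⟨v, κ, g, hg, rfl⟩ := ha
    refine ⟨act (A.dn g)⁻¹ (-v), -κ, g⁻¹, inv_mem hg, inv_eq_of_mul_eq_one_right ?_⟩
    obtain ⟨w, hw⟩ : ∃ w, w = act (A.dn g)⁻¹ (-v) := ⟨_, rfl⟩
    have hc : Commute (A.up g) (A.z (-κ)) := A.comm_S0 hg _
    rw [← hw]
    calc A.q hT v * A.z κ * A.up g * (A.q hT w * A.z (-κ) * A.up g⁻¹)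
        = A.q hT v * A.z κ * (A.up g * A.q hT w) * A.z (-κ) * A.up g⁻¹ := by group
      _ = A.q hT v * (A.z κ * A.q hT (-v)) * (A.up g * A.z (-κ)) * A.up g⁻¹ := by
          rw [A.q_conj hT hg, hw, act_act_inv]; group
      _ = (A.q hT v * A.q hT (-v)) * (A.z κ * A.z (-κ)) * (A.up g * A.up g⁻¹) := by
          rw [hc.eq, (A.z_q hT κ _).eq]; group
      _ = 1 := by
          rw [A.law hT hF, z_add, add_neg_cancel, add_neg_cancel, z_zero, q_zero,
            show om v (-v) = 0 by rw [← neg_one_smul F v, om_smul_right, om_self, mul_zero]]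
          simp [z_zero, up]
  | mem a ha =>
    rcases ha with (⟨t, rfl⟩ | ⟨j, hj, M, rfl⟩) | ha
    · exact ⟨0, t, 1, one_mem _, by simp [q_zero, up, z]⟩
    · obtain ⟨j, rfl⟩ := Fin.eq_succ_of_ne_zero hj
      exact ⟨0, 0, _, A.tail.S_mem_K j M, by rw [q_zero, z_zero, one_mul, one_mul, up_S]⟩
    · obtain ⟨i, t, rfl⟩ := Set.mem_iUnion.1 ha
      refine Fin.cases ?_ (fun i => ?_) i
      · exact ⟨t • eL F 0, 0, 1, one_mem _, by rw [q_e, z_zero, mul_one]; simp [up, mm]⟩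
      · exact ⟨0, 0, _, A.tail.m_mem_K i t, by rw [q_zero, z_zero, one_mul, one_mul, up_m]⟩

theorem ok_step (hF : ∃ a : F, a ≠ 0 ∧ a ≠ 1) (hT : OK A.tail) : OK A := by
  have hstab : ∀ k ∈ A.K, act (A.π k) (eL F 0) = eL F 0 → k ∈ A.P := by
    intro k hk e
    rw [eL_zero_eq] at e
    have h := (A.good_all hT hF hk).2 0 1 0
    rw [img_qsB, om_zero_left, add_zero, Units.val_one, q_zero, one_mul, sB_one] at h
    simpa [Eqv] using inv_mem (h e)
  refine ⟨fun k hk h1 => ?_, fun x hx => ?_, hstab, fun x hx => ?_, fun i hi x hx hy => ?_⟩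
  · obtain ⟨v, κ, g, hg, rfl⟩ := A.P_form hT hF (hstab k hk (by rw [h1, act_one]))
    have h2 := fun (a : F) (y : Vec F (n + 1)) (c : F) => congrArg (fun s => act s (vec a y c)) h1
    simp only [map_mul, act_mul, act_up, act_z, act_q, act_one, vc_inj] at h2
    obtain ⟨ha, hv, -⟩ := h2 0 0 1
    rw [act_zero, zero_add, one_smul] at hv
    subst hv
    rw [act_zero, om_zero_left, add_zero, zero_add, mul_one] at ha
    subst ha
    have hg1 : A.dn g = 1 := act_ext fun y => by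
      obtain ⟨-, h3, -⟩ := h2 0 y 0
      rw [act_one]
      rwa [zero_smul, add_zero] at h3
    rw [hT.inj g hg hg1, q_zero, z_zero]
    simp [up]
  · have hq : ∀ v, A.q hT v ∈ A.K := fun v => A.P_le_K (A.q_mem_P hT v)
    rcases A.exists_rep hT hx with ⟨v, κ, c, e⟩ | ⟨v, a, y, e⟩
    · exact ⟨A.R hT v κ c, mul_mem (mul_mem (hq _) (A.S_mem_K _ _)) (A.S_mem_K _ _), by rw [eL_zero_eq]; exact e.symm⟩
    · exact ⟨A.q hT v * A.sB hT a y,
        mul_mem (hq _) (mul_mem (mul_mem (inv_mem (A.S_mem_K _ _)) (hq _)) (A.S_mem_K _ _)),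
        by rw [eL_zero_eq]; exact e.symm⟩
  · refine ⟨A.q hT ((x (Sum.inr 0))⁻¹ • tl x) * A.z (x (Sum.inl 0) * (x (Sum.inr 0))⁻¹),
      mul_mem (A.q_mem_P hT _) (A.z_mem_P _), ?_⟩
    rw [eR_zero_eq, vc_smul, mul_zero, mul_one, smul_zero, map_mul, act_mul, act_z, act_q]
    conv_rhs => rw [← vc_eta x]
    rw [vc_inj]
    refine ⟨?_, ?_, rfl⟩
    · rw [show om ((x (Sum.inr 0))⁻¹ • tl x) (0 : Vec F (n + 1)) = 0 by simp [om], zero_add, add_zero,
        inv_mul_cancel_right₀ hx]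
    · rw [zero_add, smul_smul, mul_inv_cancel₀ hx, one_smul]
  · obtain rfl : i = 0 := Fin.ext hi
    obtain ⟨g, hg, hgy⟩ := hT.trans (tl x) hy
    obtain ⟨u, hu⟩ := exists_om_one hy
    refine ⟨A.q hT (x (Sum.inl 0) • u) * A.up g, mul_mem (A.q_mem_P hT _) (A.up_mem_P hg), ?_⟩
    rw [eL_succ_eq, map_mul, act_mul, act_up, ← tail_π, hgy, act_q, om_smul_left, hu, zero_smul, add_zero, mul_one,
      zero_add]
    conv_rhs => rw [← vc_eta x, hx]

end Amal

theorem ok_base {G : Type*} [Group G] (A : Amal F 0 G) : OK A := by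
  haveI : Subsingleton (Fin (0 + 1)) := inferInstanceAs (Subsingleton (Fin 1))
  have hK : ∀ k ∈ A.K, ∃ M, k = A.S 0 M := by
    intro k hk
    induction hk using Subgroup.closure_induction with
    | one => exact ⟨1, (map_one _).symm⟩
    | mul a b _ _ ha hb =>
      obtain ⟨M, rfl⟩ := ha; obtain ⟨N, rfl⟩ := hb
      exact ⟨M * N, (map_mul _ _ _).symm⟩
    | inv a _ ha => obtain ⟨M, rfl⟩ := ha; exact ⟨M⁻¹, (map_inv _ _).symm⟩
    | mem a ha =>
      rcases ha with ha | ha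
      · obtain ⟨j, M, rfl⟩ := Set.mem_iUnion.1 ha
        exact ⟨M, by rw [Subsingleton.elim j 0]⟩
      · obtain ⟨i, -⟩ := Set.mem_iUnion.1 ha
        exact i.elim0
  have hact : ∀ M (x : Vec F 1), act (A.π (A.S 0 M)) x = Sum.elim (fun _ => M.1 0 0 * x (Sum.inl 0) + M.1 0 1 * x (Sum.inr 0))
      (fun _ => M.1 1 0 * x (Sum.inl 0) + M.1 1 1 * x (Sum.inr 0)) := by
    intro M x
    funext l
    rcases l with l | l <;> obtain rfl := Subsingleton.elim l 0 <;> simp [A.πS_inl, A.πS_inr]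
  refine ⟨fun k hk h1 => ?_, fun x hx => ?_, fun k hk e => ?_, fun x hx => ?_, fun i => i.elim0⟩
  · obtain ⟨M, rfl⟩ := hK k hk
    have e1 := hact M (eL F 0)
    have e2 := hact M (eR F 0)
    rw [h1, act_one] at e1 e2
    suffices M = 1 by rw [this, map_one]
    refine Subtype.ext ?_
    have a1 := congrFun e1 (Sum.inl 0)
    have a2 := congrFun e1 (Sum.inr 0)
    have a3 := congrFun e2 (Sum.inl 0)
    have a4 := congrFun e2 (Sum.inr 0)
    simp [eL, eR] at a1 a2 a3 a4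
    rw [Matrix.SpecialLinearGroup.coe_one]
    ext i j
    fin_cases i <;> fin_cases j <;> simp [← a1, ← a2, ← a3, ← a4]
  · have hne : ¬(x (Sum.inl 0) = 0 ∧ x (Sum.inr 0) = 0) := fun h => hx (by
      funext l; rcases l with l | l <;> obtain rfl := Subsingleton.elim l 0 <;> simp [h.1, h.2])
    obtain ⟨M, h0, h1⟩ := exists_col hne
    refine ⟨A.S 0 M, A.S_mem_K _ _, ?_⟩
    rw [hact]
    funext l
    rcases l with l | l <;> obtain rfl := Subsingleton.elim l 0 <;> simp [eL, h0, h1]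
  · obtain ⟨M, rfl⟩ := hK k hk
    rw [hact] at e
    have h0 := congrFun e (Sum.inl 0)
    have h1 := congrFun e (Sum.inr 0)
    simp [eL] at h0 h1
    have hd : M.1 0 0 * M.1 1 1 - M.1 0 1 * M.1 1 0 = 1 := by rw [← Matrix.det_fin_two]; exact M.2
    rw [h0, h1, one_mul, mul_zero, sub_zero] at hd
    suffices M = xp (M.1 0 1) by rw [this]; exact A.xp_mem_P _
    refine Subtype.ext ?_
    rw [xp_coe]
    conv_lhs => rw [Matrix.eta_fin_two M.1, h0, h1, hd]
  · refine ⟨A.S 0 (xp (x (Sum.inl 0) * (x (Sum.inr 0))⁻¹)), A.xp_mem_P _, ?_⟩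
    rw [hact]
    funext l
    rcases l with l | l <;> obtain rfl := Subsingleton.elim l 0 <;>
      simp [eR, xp_coe, inv_mul_cancel_right₀ hx]

universe u v

theorem ok {F : Type u} [Field F] (hF : ∃ a : F, a ≠ 0 ∧ a ≠ 1) :
    ∀ (n : ℕ) {G : Type (max u v)} [Group G] (A : Amal F n G), OK A
  | 0, _, _, A => ok_base A
  | n + 1, _, _, A => A.ok_step hF (ok hF n A.tail)

end CfsgLib.Recog.SlimSp
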